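import Cfsg.Agent.Lib.NDTwoComp.Final
import Cfsg.Agent.Lib.Char.ExtensionCoset
import Cfsg.Agent.Lib.Char.ExtendChar
import Cfsg.Agent.S4456

/-!
# A group with a normal complement to a prime in all nonlinear degrees
-/

set_option autoImplicit false
set_option linter.style.haveILetI false

namespace CfsgLib.NDTwoComp

open Cfsg CfsgLib.Char CfsgLib.PrimeDegrees
open scoped ComplexConjugate CfsgLib.Char commutatorElement

universe u

theorem degree_le_of_constituent {G : Type u} [Group G] [Fintype G] {f : G → ℂ} (hf : IsCharacter G f)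
    (χ : IrrCharacter G) (h : classInner f (χ : G → ℂ) ≠ 0) {a b : ℕ} (ha : (χ : G → ℂ) 1 = a)
    (hb : f 1 = b) : a ≤ b := by
  classical
  obtain ⟨m, hm⟩ := exists_multiplicities hf
  choose d hd0 hd using fun ξ : IrrCharacter G => exists_nat_degree_irr ξ.2
  have hmχ : m χ ≠ 0 := fun e => h (by rw [hm, classInner_sum_smul_irr, e, Nat.cast_zero])
  have hb' : b = ∑ ξ : IrrCharacter G, m ξ * d ξ := by
    have := congrFun hm 1
    simp only [hb, Finset.sum_apply, Pi.smul_apply, smul_eq_mul, hd] at this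
    exact_mod_cast this
  have hda : d χ = a := Nat.cast_injective ((hd χ).symm.trans ha)
  rw [hb', ← hda]
  exact (Nat.le_mul_of_pos_left _ (Nat.pos_of_ne_zero hmχ)).trans
    (Finset.single_le_sum (f := fun ξ => m ξ * d ξ) (fun _ _ => Nat.zero_le _) (Finset.mem_univ χ))

/-- If the quotient by the normal complement is not abelian all degrees are powers of the prime. -/
theorem degree_eq_pow {N : Type u} [Group N] [Finite N] {q : ℕ} (hq : q.Prime)
    (hnd : NoDivDeg N) (A : Subgroup N) [A.Normal] (hcop : (Nat.card A).Coprime q) {k : ℕ}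
    (hidx : A.index = q ^ k) (hnab : ¬ commutator N ≤ A) :
    ∀ (χ : IrrCharacter N) (d : ℕ), (χ : N → ℂ) 1 = d → ∃ j, d = q ^ j := by
  classical
  haveI := Fintype.ofFinite N
  haveI : Fintype A := Fintype.ofFinite A
  -- a nonlinear character of the quotient
  obtain ⟨β, hβ⟩ : ∃ β : IrrCharacter (N ⧸ A), (β : N ⧸ A → ℂ) 1 ≠ 1 := by
    by_contra h'
    push Not at h'
    apply hnab
    rw [commutator_def, Subgroup.commutator_le]
    intro a _ b _
    rw [← QuotientGroup.eq_one_iff]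
    exact commutatorElement_eq_one_iff_mul_comm.mpr
      ((Cfsg.Agent.S0187.result (G := N ⧸ A)).mpr h' (a : N ⧸ A) b)
  obtain ⟨b, hb, -, hbdvd⟩ := exists_degree_dvd_card β.2
  rw [show Nat.card (N ⧸ A) = A.index from rfl, hidx] at hbdvd
  obtain ⟨i, -, hbi⟩ := (Nat.dvd_prime_pow hq).mp hbdvd
  set β' : IrrCharacter N :=
    ⟨_, isIrrCharacter_comp (f := QuotientGroup.mk' A) (QuotientGroup.mk'_surjective A) β.2⟩
  have hβ'1 : (β' : N → ℂ) 1 = b := by simpa [β'] using hb
  have hb1 : b ≠ 1 := fun e => hβ (by rw [hb, e, Nat.cast_one])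
  have hβA : ∀ (a : A) (g : N), (β' : N → ℂ) ((a : N) * g) = (β' : N → ℂ) g := fun a g => by
    show (β : N ⧸ A → ℂ) (((a : N) * g : N) : N ⧸ A) = (β : N ⧸ A → ℂ) (g : N ⧸ A)
    rw [QuotientGroup.mk_mul, (QuotientGroup.eq_one_iff (a : N)).mpr a.2, one_mul]
  -- the complement is abelian
  have hlin : ∀ α : IrrCharacter A, (α : A → ℂ) 1 = 1 := by
    intro α
    obtain ⟨c, hc, hc0, hcdvd⟩ := exists_degree_dvd_card α.2
    by_contra hc1
    have hc1' : c ≠ 1 := fun e => hc1 (by rw [hc, e, Nat.cast_one])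
    set T := inertia A (α : A → ℂ) with hT
    haveI : Fintype T := Fintype.ofFinite _
    have hAT : A ≤ T := le_inertia A (isClassFunction_irr α)
    set A' := A.subgroupOf T
    haveI : A'.Normal := Subgroup.normal_subgroupOf
    haveI : Fintype A' := Fintype.ofFinite _
    let e : A' ≃* A := Subgroup.subgroupOfEquivOfLe hAT
    set θ : A' → ℂ := fun a => (α : A → ℂ) (e a)
    have hθ : IsIrrCharacter A' θ := isIrrCharacter_comp_mulEquiv e α.2
    have hθ1 : θ 1 = c := by simp [θ, hc]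
    have hθinv : ∀ g : T, conjBy A' θ g = θ := fun g => funext fun a => by
      have h := congrFun ((mem_inertia A).mp g.2) (e a)
      refine Eq.trans ?_ h
      rfl
    have hidx' : A'.index ∣ q ^ k := hidx ▸ Subgroup.relIndex_dvd_index_of_normal A T
    have hcard' : Nat.card A' = Nat.card A := Nat.card_congr e.toEquiv
    obtain ⟨i', -, hi'⟩ := (Nat.dvd_prime_pow hq).mp hidx'
    have hcq : q.Coprime c := (hcop.coprime_dvd_left hcdvd).symm
    obtain ⟨η, hη, hres⟩ := extends_of_det A' hθ hθinv c (Nat.card A') hθ1 (1 : T →* ℂˣ) (fun a => by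
        obtain ⟨f, hf⟩ := exists_det_hom (isCharacter_of_isIrr hθ)
        rw [hf, MonoidHom.one_apply]
        dsimp only
        rw [← Units.val_pow_eq_pow_val, ← map_pow, pow_card_eq_one', map_one])
      (by rw [hi', hcard']; exact Nat.Coprime.pow_left _ (hcq.mul_right hcop.symm))
    -- a constituent of the quotient character
    have hresT : IsCharacter T (fun t : T => (β' : N → ℂ) t) :=
      isCharacter_restrict T (isCharacter_of_isIrr β'.2)
    obtain ⟨m, hm⟩ := exists_multiplicities hresT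
    obtain ⟨ν, hν0⟩ : ∃ ν, m ν ≠ 0 := by
      by_contra h'
      push Not at h'
      apply irr_degree_ne_zero β'.2
      have := congrFun hm 1
      simpa [h'] using this
    have hν : classInner (fun t : T => (β' : N → ℂ) t) (ν : T → ℂ) ≠ 0 := by
      rw [hm, classInner_sum_smul_irr]
      exact Nat.cast_ne_zero.mpr hν0
    have havg : avgN A' (ν : T → ℂ) = (ν : T → ℂ) := by
      rcases avgN_dichotomy A' ν.2 with ⟨h0, -⟩ | ⟨h0, -⟩
      · exact h0
      · exfalso
        apply hν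
        have hfix : avgN A' (fun t : T => (β' : N → ℂ) t) = fun t : T => (β' : N → ℂ) t := by
          funext t
          simp only [avgN]
          rw [Finset.sum_eq_card_nsmul (b := (β' : N → ℂ) t) fun a _ => by
            exact hβA ⟨_, Subgroup.mem_subgroupOf.mp a.2⟩ (t : N), nsmul_eq_mul, Finset.card_univ,
            ← Nat.card_eq_fintype_card, ← mul_assoc,
            inv_mul_cancel₀ (Nat.cast_ne_zero.mpr Nat.card_pos.ne'), one_mul]
        rw [← hfix, classInner_avgN, h0]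
        simp [classInner]
    obtain ⟨hirr, -, hinner⟩ := extension_mul_isIrr A' hθ hη hres ν.2 havg
    obtain ⟨a, ha0, ha⟩ := exists_nat_degree_irr ν.2
    have hνconst : ∀ x : A', (ν : T → ℂ) x = (ν : T → ℂ) 1 := by
      intro x
      rcases avgN_dichotomy A' ν.2 with ⟨-, hcn⟩ | ⟨h0, -⟩
      · simpa using hcn x 1
      · rw [havg] at h0
        exact absurd (congrFun h0 1) (irr_degree_ne_zero ν.2)
    have haq : a ∣ q ^ k := by
      obtain ⟨θ', hθ'⟩ := exists_constituent A' (isCharacter_of_isIrr ν.2) (irr_degree_ne_zero ν.2)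
      obtain ⟨k', hk', hkd⟩ := degree_ratio A' θ'.2 ν.2 hθ'
      have h1 : (θ' : A' → ℂ) = fun _ => 1 := by
        by_contra hne
        apply hθ'
        rw [show (fun x : A' => (ν : T → ℂ) x) = (ν : T → ℂ) 1 • (fun _ : A' => (1 : ℂ)) from
          funext fun x => by rw [hνconst]; simp, classInner_smul_left,
          classInner_irr_ne isIrrCharacter_one θ'.2 (Ne.symm hne), mul_zero]
      rw [h1, mul_one, ha, Nat.cast_inj] at hk'
      exact hk' ▸ hkd.trans hidx'
    obtain ⟨ξ, hξ⟩ := degree_of_extension A α.2 ((ν : T → ℂ) * η) hirr (c := a) (fun x => by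
      have h1 := hνconst ⟨⟨(x : N), hAT x.2⟩, x.2⟩
      have h2 := hres ⟨⟨(x : N), hAT x.2⟩, x.2⟩
      rw [Pi.mul_apply]
      exact (congrArg₂ (· * ·) (h1.trans ha) h2)) ha0.ne'
    have hη1 : η 1 = c := by rw [← hθ1]; exact hres 1
    have hξ1 : (ξ : N → ℂ) 1 = ((T.index * a * c : ℕ) : ℂ) := by
      rw [hξ, indFun_one, Pi.mul_apply, ha, hη1]; push_cast; ring
    have hle : b ≤ T.index * a := by
      refine degree_le_of_constituent (isCharacter_indFun T (isCharacter_of_isIrr ν.2)) β' ?_ hβ'1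
        (by rw [indFun_one, ha]; push_cast; rfl)
      rw [← classInner_conj_symm, frobenius_reciprocity' T _ (isClassFunction_irr β')]
      simpa using hν
    obtain ⟨i₁, -, hi₁⟩ := (Nat.dvd_prime_pow hq).mp (hidx ▸ Subgroup.index_dvd_of_le hAT)
    obtain ⟨i₂, -, hi₂⟩ := (Nat.dvd_prime_pow hq).mp haq
    rw [hi₁, hi₂, ← pow_add, hbi] at hle
    have hbd : b ∣ T.index * a * c := by
      rw [hi₁, hi₂, ← pow_add, hbi]
      exact dvd_mul_of_dvd_left (pow_dvd_pow q ((Nat.pow_le_pow_iff_right hq.one_lt).mp hle)) _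
    have hne1 : T.index * a * c ≠ 1 := fun e => hc1' (Nat.eq_one_of_mul_eq_one_left e)
    have heq := hnd β' ξ _ _ hβ'1 hξ1 hb1 hne1 hbd
    have hcdq : c ∣ q ^ i := hbi ▸ heq ▸ dvd_mul_left c _
    exact hc1' (Nat.eq_one_of_dvd_coprimes (Nat.Coprime.pow_left i hcq) hcdq dvd_rfl)
  intro χ d hd
  have hab := (Cfsg.Agent.S0187.result (G := A)).mpr hlin
  have := Extraspecial.ito χ.2 A (fun x hx y hy => congrArg Subtype.val (hab ⟨x, hx⟩ ⟨y, hy⟩)) hd
  rw [hidx] at this
  obtain ⟨j, -, hj⟩ := (Nat.dvd_prime_pow hq).mp this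
  exact ⟨j, hj⟩

/-- The kernel of the argument. -/
theorem degrees_eq_of_operator {N : Type u} [Group N] [Finite N] {q r : ℕ} (hq : q.Prime)
    (hr : r.Prime) (hqr : r ≠ q) {σ : MulAut N} (hσr : ∃ t, σ ^ r = MulAut.conj t)
    (hinv : ∀ ψ : IrrCharacter N, (ψ : N → ℂ) 1 ≠ 1 → ∀ n, (ψ : N → ℂ) (σ n) = (ψ : N → ℂ) n)
    (hdiv : ∀ (ψ : IrrCharacter N) (d : ℕ), (ψ : N → ℂ) 1 = d → d ≠ 1 → q ∣ d ∧ ¬ r ∣ d)
    (hnd : NoDivDeg N) {y : N} {k : ℕ} (hyk : y ^ q ^ k = 1) (hy : dbar σ y ≠ 1) :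
    ∀ (ψ ψ' : IrrCharacter N) (d d' : ℕ), (ψ : N → ℂ) 1 = d → (ψ' : N → ℂ) 1 = d' →
      d ≠ 1 → d' ≠ 1 → d = d' := by
  classical
  obtain ⟨A, hA, hcop, j, hidx⟩ := Cfsg.Agent.S4456.result (G := N) q hq (fun χ hχ => by
    obtain ⟨d, -, hd⟩ := exists_nat_degree_irr χ.2
    rw [Extraspecial.charDegree_eq hd] at hχ ⊢
    exact (hdiv χ d hd hχ).1)
  haveI := hA
  intro ψ ψ' d d' hd hd' h1 h1'
  by_cases hle : commutator N ≤ A
  · have hqL : ¬ q ∣ Nat.card (commutator N) := fun h =>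
      hq.coprime_iff_not_dvd.mp hcop.symm (h.trans (Subgroup.card_dvd_of_le hle))
    obtain ⟨D⟩ := exists_split hq hr hqr hσr hqL hinv hyk hy
    exact D.degrees_eq hq hr hqr (fun χ e he he1 => (hdiv χ e he he1).2) hnd ψ ψ' d d' hd hd' h1 h1'
  · obtain ⟨i, rfl⟩ := degree_eq_pow hq hnd A hcop hidx hle ψ d hd
    obtain ⟨i', rfl⟩ := degree_eq_pow hq hnd A hcop hidx hle ψ' d' hd'
    rcases le_total i i' with h | h
    · exact hnd ψ ψ' _ _ hd hd' h1 h1' (pow_dvd_pow q h)
    · exact (hnd ψ' ψ _ _ hd' hd h1' h1 (pow_dvd_pow q h)).symm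

end CfsgLib.NDTwoComp
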