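import Cfsg.Agent.Lib.NDTwoComp.Core

/-!
# The split group has a single nonlinear degree
-/

set_option autoImplicit false
set_option linter.style.haveILetI false

namespace CfsgLib.NDTwoComp

open Cfsg CfsgLib.Char CfsgLib.PrimeDegrees
open scoped ComplexConjugate CfsgLib.Char

universe u

/-- A nilpotent group with a `p`-group as abelianisation is a `p`-group. -/
theorem isPGroup_of_abelianization {L : Type u} [Group L] [Finite L] [Group.IsNilpotent L] {p : ℕ}
    [Fact p.Prime] {n : ℕ} (h : (commutator L).index = p ^ n) : IsPGroup p L := by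
  obtain ⟨S⟩ : Nonempty (Sylow p L) := inferInstance
  haveI hn : (S : Subgroup L).Normal :=
    Sylow.normal_of_normalizerCondition Group.normalizerCondition_of_isNilpotent S
  haveI hsol : Group.IsSolvable (L ⧸ (S : Subgroup L)) := inferInstance
  have htop : commutator (L ⧸ (S : Subgroup L)) = ⊤ := by
    rw [← Subgroup.index_eq_one]
    have h1 : (commutator (L ⧸ (S : Subgroup L))).index ∣ p ^ n := by
      rw [← h, show commutator (L ⧸ (S : Subgroup L)) =
        (commutator L).map (QuotientGroup.mk' (S : Subgroup L)) by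
          rw [commutator_def, commutator_def, Subgroup.map_commutator, ← MonoidHom.range_eq_map,
            MonoidHom.range_eq_top.mpr (QuotientGroup.mk'_surjective _)]]
      exact Subgroup.index_map_dvd _ (QuotientGroup.mk'_surjective _)
    have h2 : (commutator (L ⧸ (S : Subgroup L))).index ∣ (S : Subgroup L).index :=
      Subgroup.index_dvd_card _
    obtain ⟨j, -, hj⟩ := (Nat.dvd_prime_pow Fact.out).mp h1
    rw [hj] at h2 ⊢
    rcases j with _ | j
    · rw [pow_zero]
    · exact absurd ((dvd_pow_self p (Nat.succ_ne_zero j)).trans h2) S.not_dvd_index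
  have hsub : Subsingleton (L ⧸ (S : Subgroup L)) := by
    by_contra hns
    rw [not_subsingleton_iff_nontrivial] at hns
    exact (Group.IsSolvable.commutator_lt_top_of_nontrivial (L ⧸ (S : Subgroup L))).ne htop
  have hS : (S : Subgroup L) = ⊤ := QuotientGroup.subgroup_eq_top_of_subsingleton _ hsub
  exact (hS ▸ S.2 : IsPGroup p (⊤ : Subgroup L)).of_equiv Subgroup.topEquiv

variable {N : Type u} [Group N] {q r : ℕ}

namespace Split

variable (D : Split N q r)

theorem pow_fix {w : N} (hw : w ∈ D.W) : (D.τ ^ r) w = w := by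
  obtain ⟨t, ht, he⟩ := D.pow_inner
  rw [he, MulAut.conj_apply, D.comm t ht w hw, mul_inv_cancel_right]

theorem disp_pow {a : N} (ha : a ∈ D.W) (h : D.τ (D.τ a * a⁻¹) = D.τ a * a⁻¹) :
    (D.τ a * a⁻¹) ^ r = 1 := by
  have hi : ∀ i : ℕ, (D.τ ^ i) a = (D.τ a * a⁻¹) ^ i * a := by
    intro i
    induction i with
    | zero => simp
    | succ i ih => rw [pow_succ', MulAut.mul_apply, ih, map_mul, map_pow, h, pow_succ, mul_assoc
        , inv_mul_cancel_right]
  have := hi r
  rw [D.pow_fix ha, eq_comm, mul_eq_right] at this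
  exact this

include D in
theorem degrees_eq [Finite N] (hq : q.Prime) (hr : r.Prime) (hqr : r ≠ q)
    (hdiv : ∀ (ψ : IrrCharacter N) (d : ℕ), (ψ : N → ℂ) 1 = d → d ≠ 1 → ¬ r ∣ d)
    (hnd : NoDivDeg N) (ψ ψ' : IrrCharacter N) (d d' : ℕ) (hd : (ψ : N → ℂ) 1 = d)
    (hd' : (ψ' : N → ℂ) 1 = d') (h1 : d ≠ 1) (h1' : d' ≠ 1) : d = d' := by
  classical
  haveI := Fintype.ofFinite N
  haveI := D.nilpotent
  haveI hLnt : Nontrivial ↥(commutator N) := by
    rw [Subgroup.nontrivial_iff_ne_bot]
    intro e
    apply h1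
    have hlin := (Cfsg.Agent.S0187.result (G := N)).mp (fun a b =>
      commutatorElement_eq_one_iff_mul_comm.mp (Subgroup.mem_bot.mp (e ▸
        Subgroup.commutator_mem_commutator (Subgroup.mem_top a) (Subgroup.mem_top b)))) ψ
    rw [hd] at hlin
    exact_mod_cast hlin
  -- a nontrivial linear character of the derived subgroup
  obtain ⟨x₀, -, hx₀⟩ := SetLike.exists_of_lt
    (Group.IsSolvable.commutator_lt_top_of_nontrivial ↥(commutator N))
  obtain ⟨ν₀, hν₀x⟩ := exists_hom_ne hx₀
  have hν₀ : ν₀ ≠ 1 := fun e => hν₀x (by rw [e]; rfl)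
  set S0 := D.stab (chi ν₀ : ↥(commutator N) → ℂ)
  obtain ⟨ψ₀, hψ₀⟩ := D.exists_degree hν₀
  have hS0idx := D.stab_ne_top (chi_ne_one hν₀)
  have hS0r : r.Coprime S0.index :=
    hr.coprime_iff_not_dvd.mpr (hdiv ψ₀ _ hψ₀ hS0idx)
  have hS : ∀ a ∈ S0, ∀ ν : Lin N, D.act a ν = ν := by
    intro a ha ν
    by_cases hν : ν = 1
    · rw [hν, map_one]
    · exact D.mem_stab_chi.mp (D.stab_eq hnd hν₀ hν ▸ ha)
  by_cases hab : ∀ a b : ↥(commutator N), a * b = b * a
  · -- the abelian case
    suffices H : ∀ (χ : IrrCharacter N) (e : ℕ), (χ : N → ℂ) 1 = e → e ≠ 1 → e = S0.index by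
      rw [H ψ d hd h1, H ψ' d' hd' h1']
    intro χ e he he1
    set A := inertia (commutator N) (chi ν₀ : ↥(commutator N) → ℂ)
    haveI : A.Normal := Subgroup.Normal.of_commutator_le (G := N) (h := commutator_le_inertia _)
    have hcen : ∀ w : D.W, w ∈ S0 → ∀ l : ↥(commutator N), (w : N) * l = l * w := by
      intro w hw l
      have hl : (MulAut.conjNormal (w : N) : MulAut ↥(commutator N)) l * l⁻¹ ∈
          commutator ↥(commutator N) := by
        by_contra hn
        obtain ⟨ν, hν⟩ := exists_hom_ne hn
        apply hν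
        rw [map_mul, map_inv, mul_inv_eq_one]
        exact DFunLike.congr_fun (hS w hw ν) l
      have hbot : commutator ↥(commutator N) = ⊥ := by
        rw [commutator_eq_bot_iff]
        exact ⟨⟨hab⟩⟩
      rw [hbot, Subgroup.mem_bot, mul_inv_eq_one] at hl
      have h2 := congrArg Subtype.val hl
      rw [MulAut.conjNormal_apply, mul_inv_eq_iff_eq_mul] at h2
      exact h2
    have hA : ∀ a ∈ A, ∃ l : ↥(commutator N), ∃ w : D.W, w ∈ S0 ∧ a = (l : N) * w := by
      intro a ha
      obtain ⟨l, hl, w, hw, rfl⟩ := D.exists_mul a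
      refine ⟨⟨l, hl⟩, ⟨w, hw⟩, ?_, rfl⟩
      have := A.mul_mem (A.inv_mem (commutator_le_inertia (chi ν₀) hl)) ha
      rw [inv_mul_cancel_left] at this
      exact this
    have hAab : ∀ a ∈ A, ∀ b ∈ A, a * b = b * a := by
      intro a ha b hb
      obtain ⟨l, w, hw, rfl⟩ := hA a ha
      obtain ⟨l', w', hw', rfl⟩ := hA b hb
      have e1 := hcen w hw l'
      have e2 := hcen w' hw' l
      have e3 : (l : N) * l' = l' * l := congrArg Subtype.val (hab l l')
      have e4 : (w : N) * w' = w' * w := D.comm w w.2 w' w'.2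
      calc (l : N) * w * (l' * w') = l * (w * l') * w' := by group
        _ = (l * l') * (w * w') := by rw [e1]; group
        _ = (l' * l) * (w' * w) := by rw [e3, e4]
        _ = l' * (l * w') * w := by group
        _ = l' * w' * (l * w) := by rw [← e2]; group
    have hdvd : e ∣ A.index := Extraspecial.ito χ.2 A hAab he
    rw [← D.index_stab] at hdvd
    exact hnd χ ψ₀ _ _ he hψ₀ he1 hS0idx hdvd
  · -- the nonabelian case is impossible
    exfalso
    obtain ⟨β₀, hβ₀⟩ : ∃ β : IrrCharacter ↥(commutator N), (β : ↥(commutator N) → ℂ) 1 ≠ 1 := by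
      by_contra hno
      push Not at hno
      exact hab ((Cfsg.Agent.S0187.result (G := ↥(commutator N))).mpr hno)
    have hvan : ∀ β : IrrCharacter ↥(commutator N), (β : ↥(commutator N) → ℂ) 1 ≠ 1 →
        (β : ↥(commutator N) → ℂ) x₀ = 0 := by
      intro β hβ
      have h := congrFun (D.twist_eq hnd hν₀ ν₀ β hβ) x₀
      change (ν₀ x₀ : ℂ) * _ = _ at h
      by_contra h0
      exact hν₀x (Units.ext ((mul_eq_right₀ h0).mp h))
    have hcard : Nat.card (Subgroup.centralizer ({x₀} : Set ↥(commutator N))) =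
        Nat.card (Lin N) := by rw [(class_of_vanish hvan).1, card_lin]
    have hxZ : x₀ ∉ Subgroup.center ↥(commutator N) := by
      intro hx
      have hC : Subgroup.centralizer ({x₀} : Set ↥(commutator N)) = ⊤ :=
        Subgroup.centralizer_eq_top_iff_subset.mpr (Set.singleton_subset_iff.mpr hx)
      rw [hC, Subgroup.card_top, card_lin] at hcard
      have hk := (commutator ↥(commutator N)).card_mul_index
      have h1c : Nat.card (commutator ↥(commutator N)) = 1 :=
        (Nat.mul_eq_right Subgroup.index_ne_zero_of_finite).mp (hk.trans hcard)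
      exact hab fun a b => commutatorElement_eq_one_iff_mul_comm.mp
        (Subgroup.mem_bot.mp ((Subgroup.card_eq_one.mp h1c) ▸
          Subgroup.commutator_mem_commutator (Subgroup.mem_top a) (Subgroup.mem_top b)))
    have hZlt : Nat.card (Subgroup.center ↥(commutator N)) < Nat.card (Lin N) := by
      rw [← hcard]
      refine lt_of_le_of_ne (Subgroup.card_le_of_le (Subgroup.center_le_centralizer _)) fun e => hxZ ?_
      rw [Subgroup.eq_of_le_of_card_ge (Subgroup.center_le_centralizer _) e.ge,
        Subgroup.mem_centralizer_singleton_iff]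
    -- the operator on the complement
    let f : D.W →* D.W :=
      { toFun := fun w => ⟨D.τ w, D.pres w w.2⟩
        map_one' := Subtype.ext (map_one D.τ)
        map_mul' := fun a b => Subtype.ext (map_mul D.τ (a : N) b) }
    have hf : Function.Injective f := fun a b h => Subtype.ext (D.τ.injective (congrArg Subtype.val h))
    let τW : MulAut D.W :=
      MulEquiv.ofBijective f ⟨hf, Finite.injective_iff_surjective.mp hf⟩
    have hτW : ∀ w : D.W, ((τW w : D.W) : N) = D.τ w := fun w => rfl
    have hker : S0 ≤ (disp τW).ker := fun a ha => by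
      rw [MonoidHom.mem_ker, disp_apply, mul_inv_eq_one]
      exact Subtype.ext ((hτW a).trans (D.fix_of_stab (chi ν₀) (chi_ne_one hν₀) ha))
    set U := (disp τW).range
    have hUdvd : Nat.card U ∣ S0.index := by
      rw [← Subgroup.index_ker]
      exact Subgroup.index_dvd_of_le hker
    have hUmoved : ∀ u : U, u ≠ 1 → D.τ ((u : D.W) : N) ≠ ((u : D.W) : N) := by
      intro u hu hfix
      apply hu
      obtain ⟨a, ha⟩ := u.2
      have hv : ((u : D.W) : N) = D.τ (a : N) * (a : N)⁻¹ := by rw [← ha]; rfl
      rw [hv] at hfix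
      have hur : u ^ r = 1 := Subtype.ext (Subtype.ext (by
        show ((u : D.W) : N) ^ r = 1
        rw [hv, D.disp_pow a.2 hfix]))
      exact (powCoprime (hS0r.coprime_dvd_right hUdvd).symm).injective
        (by simp [powCoprime, hur])
    set yW : D.W := ⟨D.y, D.y_mem⟩
    have hy : disp τW yW ∉ S0 := by
      intro hmem
      have hfix : D.τ (D.τ D.y * D.y⁻¹) = D.τ D.y * D.y⁻¹ :=
        D.fix_of_stab (chi ν₀) (chi_ne_one hν₀) hmem
      have hur := D.disp_pow D.y_mem hfix
      have huq : (D.τ D.y * D.y⁻¹) ^ q = 1 := by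
        rw [Commute.mul_pow (D.comm _ (D.pres _ D.y_mem) _ (D.W.inv_mem D.y_mem)), ← map_pow,
          inv_pow, D.y_pow, map_one, inv_one, one_mul]
      have := pow_gcd_eq_one.mpr ⟨huq, hur⟩
      rw [(Nat.coprime_primes hq hr).mpr hqr.symm, pow_one, mul_inv_eq_one] at this
      exact D.y_moved this
    -- the operator on the linear characters
    let e : MulAut ↥(commutator N) :=
      { toFun := fun l => ⟨D.τ l, of_map_eq_one D.τ l.2⟩
        invFun := fun l => ⟨D.τ.symm l, of_map_eq_one D.τ.symm l.2⟩
        left_inv := fun l => Subtype.ext (by simp)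
        right_inv := fun l => Subtype.ext (by simp)
        map_mul' := fun a b => Subtype.ext (map_mul D.τ (a : N) b) }
    let c : MulAut (Lin N) :=
      { toFun := fun ν => ν.comp e.symm.toMonoidHom
        invFun := fun ν => ν.comp e.toMonoidHom
        left_inv := fun ν => MonoidHom.ext fun l => by simp
        right_inv := fun ν => MonoidHom.ext fun l => by simp
        map_mul' := fun _ _ => rfl }
    have hcomm : ∀ (a : D.W) (ν : Lin N), c (D.act a ν) = D.act (τW a) (c ν) := by
      intro a ν
      refine MonoidHom.ext fun l => ?_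
      show D.act a ν (e.symm l) = _
      rw [D.act_apply, D.act_apply]
      show _ = ν (e.symm _)
      congr 1
      refine Subtype.ext ?_
      show (a : N) * D.τ.symm (l : N) * (a : N)⁻¹ =
        D.τ.symm (D.τ (a : N) * (l : N) * (D.τ (a : N))⁻¹)
      rw [map_mul, map_mul, map_inv, MulEquiv.symm_apply_apply]
    have hmove : ∀ ν : Lin N, ∃ w : D.W, c ν = D.act w ν := by
      intro ν
      by_cases hν : ν = 1
      · exact ⟨1, by rw [hν, map_one, map_one]⟩
      obtain ⟨w, hw⟩ := D.exists_move (chi ν) (chi_ne_one hν)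
      refine ⟨(τW w)⁻¹, MonoidHom.ext fun l => Units.ext ?_⟩
      rw [D.act_apply]
      set x : ↥(commutator N) := ⟨((τW w)⁻¹ : D.W).1 * l * (((τW w)⁻¹ : D.W).1)⁻¹,
        (inferInstance : (commutator N).Normal).conj_mem (l : N) l.2 _⟩ with hxdef
      show (ν (e.symm l) : ℂ) = (ν x : ℂ)
      have hx := hw (e.symm x)
      rw [chi_apply, conjBy_apply, chi_apply] at hx
      have e1 : (⟨D.τ ((e.symm x : ↥(commutator N)) : N), of_map_eq_one D.τ (e.symm x).2⟩ :
          ↥(commutator N)) = x := e.apply_symm_apply x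
      rw [e1] at hx
      rw [hx]
      congr 2
      refine Subtype.ext ?_
      show D.τ.symm (l : N) = (w : N) * D.τ.symm (x : N) * (w : N)⁻¹
      simp only [hxdef, Subgroup.coe_inv, hτW, map_mul, map_inv, MulEquiv.symm_apply_apply, inv_inv]
      group
    have hcpow : ∀ i : ℕ, ∀ (ν : Lin N) (l : ↥(commutator N)), ((c ^ i) ν) l = ν ((e ^ i).symm l) := by
      intro i
      induction i with
      | zero => intro ν l; rfl
      | succ i ih =>
        intro ν l
        rw [pow_succ', MulAut.mul_apply]
        show ((c ^ i) ν) (e.symm l) = _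
        rw [ih]
        congr 1
        rw [pow_succ']
        rfl
    have hepow : ∀ i : ℕ, ∀ l : ↥(commutator N), (((e ^ i) l : ↥(commutator N)) : N) = (D.τ ^ i) l := by
      intro i
      induction i with
      | zero => intro l; rfl
      | succ i ih =>
        intro l
        rw [pow_succ', pow_succ', MulAut.mul_apply, MulAut.mul_apply, ← ih]
        rfl
    have hcr : ∃ t : D.W, ∀ ν, (c ^ r) ν = D.act t ν := by
      obtain ⟨t, htW, ht⟩ := D.pow_inner
      refine ⟨(⟨t, htW⟩ : D.W)⁻¹, fun ν => MonoidHom.ext fun l => ?_⟩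
      rw [hcpow, D.act_apply]
      congr 1
      apply (e ^ r).injective
      rw [MulEquiv.apply_symm_apply]
      refine Subtype.ext ?_
      rw [hepow, ht, MulAut.conj_apply, Subgroup.coe_inv]
      group
    have hV : 1 < Nat.card (Lin N) := Finite.one_lt_card_iff_nontrivial.mpr ⟨ν₀, 1, hν₀⟩
    have hfree : ∀ (a : D.W) (ν : Lin N), ν ≠ 1 → D.act a ν = ν → a ∈ S0 := fun a ν hν h => by
      show a ∈ D.stab (chi ν₀ : ↥(commutator N) → ℂ)
      rw [D.stab_eq hnd hν₀ hν]
      exact D.mem_stab_chi.mpr h
    have hbig : Nat.card (Lin N) < Nat.card U ^ 2 :=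
      card_lt_sq_range D.act c τW S0 hS hfree hcomm hmove hcr hS0r hV yW hy
    have hfreeV : ∀ u : U, u ≠ 1 → ∀ ν : Lin N, (D.act.comp U.subtype) u ν = ν → ν = 1 := by
      intro u hu ν h
      by_contra hν
      exact hUmoved u hu (D.fix_of_stab (chi ν) (chi_ne_one hν) (D.mem_stab_chi.mpr h))
    obtain ⟨p, n, hp, hn, hVn⟩ := exists_prime_exponent (D.act.comp U.subtype) hfreeV hV hbig
    haveI := Fact.mk hp
    have hP : IsPGroup p ↥(commutator N) := isPGroup_of_abelianization (n := n) (by rw [← card_lin, hVn])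
    obtain ⟨z, hz⟩ := IsPGroup.iff_card.mp (hP.to_subgroup (Subgroup.center ↥(commutator N)))
    have hz0 : 0 < z := by
      haveI := (hP.center_nontrivial)
      have : 1 < Nat.card (Subgroup.center ↥(commutator N)) := Finite.one_lt_card
      rw [hz] at this
      exact Nat.pos_of_ne_zero fun e => by rw [e, pow_zero] at this; exact this.false
    have hcen : ∀ (g : N) (m : ↥(commutator N)), m ∈ Subgroup.center ↥(commutator N) →
        (MulAut.conjNormal g : MulAut ↥(commutator N)) m ∈ Subgroup.center ↥(commutator N) := by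
      intro g m hm
      rw [Subgroup.mem_center_iff] at hm ⊢
      intro b
      obtain ⟨b, rfl⟩ := (MulAut.conjNormal g : MulAut ↥(commutator N)).surjective b
      rw [← map_mul, ← map_mul, hm]
    let γ : U →* MulAut (Subgroup.center ↥(commutator N)) :=
      { toFun := fun u =>
          { toFun := fun m => ⟨_, hcen ((u : D.W) : N) m m.2⟩
            invFun := fun m => ⟨_, hcen (((u : D.W) : N)⁻¹) m m.2⟩
            left_inv := fun m => Subtype.ext (Subtype.ext (by
              simp [MulAut.conjNormal_apply, mul_assoc]))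
            right_inv := fun m => Subtype.ext (Subtype.ext (by
              simp [MulAut.conjNormal_apply, mul_assoc]))
            map_mul' := fun a b => Subtype.ext (map_mul _ (a : ↥(commutator N)) b) }
        map_one' := MulEquiv.ext fun m => Subtype.ext (Subtype.ext (by simp [MulAut.conjNormal_apply]))
        map_mul' := fun a b => MulEquiv.ext fun m => Subtype.ext (Subtype.ext (by
          simp [MulAut.conjNormal_apply, mul_assoc])) }
    have d1 := card_dvd_pred (X := Lin N) (D.act.comp U.subtype) hfreeV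
    have d2 := card_dvd_pred γ fun u hu m hm => by
      have h2 : ((u : D.W) : N) * (m : ↥(commutator N)) * ((u : D.W) : N)⁻¹ = (m : ↥(commutator N)) :=
        congrArg (fun z => ((z : Subgroup.center ↥(commutator N)) : ↥(commutator N)).1) hm
      rw [mul_inv_eq_iff_eq_mul] at h2
      exact Subtype.ext (Subtype.ext (D.fpf _ (u : D.W).2 (hUmoved u hu) _
        (m : ↥(commutator N)).2 h2.symm))
    rw [hVn] at d1 hbig hZlt
    rw [hz] at d2 hZlt
    exact gcd_contradiction hp hz0 ((Nat.pow_lt_pow_iff_right hp.one_lt).mp hZlt) d1 d2 hbig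

end Split

end CfsgLib.NDTwoComp
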