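import Cfsg.Agent.Lib.NDTwoComp.Complement

/-!
# The characters of the normal part of a split group
-/

set_option autoImplicit false
set_option linter.style.haveILetI false

namespace CfsgLib.NDTwoComp

open Cfsg CfsgLib.Char CfsgLib.PrimeDegrees
open scoped ComplexConjugate CfsgLib.Char

universe u

variable {N : Type u} [Group N] {q r : ℕ}

namespace Split

variable (D : Split N q r)

/-- The stabiliser in the complement of a function on the derived subgroup. -/
def stab (β : ↥(commutator N) → ℂ) : Subgroup D.W :=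
  (inertia (commutator N) β).comap D.W.subtype

theorem mem_stab {β : ↥(commutator N) → ℂ} {w : D.W} :
    w ∈ D.stab β ↔ conjBy (commutator N) β (w : N) = β := Iff.rfl

theorem commutator_le_inertia [Finite N] (β : IrrCharacter ↥(commutator N)) :
    commutator N ≤ inertia (commutator N) (β : ↥(commutator N) → ℂ) :=
  le_inertia _ (isClassFunction_irr β)

theorem index_stab [Finite N] (β : IrrCharacter ↥(commutator N)) :
    (D.stab (β : ↥(commutator N) → ℂ)).index =
      (inertia (commutator N) (β : ↥(commutator N) → ℂ)).index := by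
  set I := inertia (commutator N) (β : ↥(commutator N) → ℂ)
  haveI : I.Normal := Subgroup.Normal.of_commutator_le (G := N) (h := commutator_le_inertia β)
  have hsup : D.W ⊔ I = ⊤ := by
    rw [Subgroup.eq_top_iff']
    intro n
    obtain ⟨l, hl, w, hw, rfl⟩ := D.exists_mul n
    exact Subgroup.mul_mem _ (Subgroup.mem_sup_right (commutator_le_inertia β hl))
      (Subgroup.mem_sup_left hw)
  rw [stab, Subgroup.index_comap, Subgroup.range_subtype, ← Subgroup.relIndex_sup_right (H := D.W) (K := I), hsup,
    Subgroup.relIndex_top_right]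

/-- An element of the complement and a conjugate fix no class. -/
theorem eq_one_of_fixed [Finite N] {w : D.W} (hw : D.τ (w : N) ≠ w)
    (β : IrrCharacter ↥(commutator N))
    (h : conjBy (commutator N) (β : ↥(commutator N) → ℂ) (w : N) = β) :
    (β : ↥(commutator N) → ℂ) = fun _ => 1 := by
  classical
  set e : MulAut ↥(commutator N) := MulAut.conjNormal (w : N) with he
  have hcls : Nat.card {C : ConjClasses ↥(commutator N) //
      ConjClasses.map e.toMonoidHom C = C} ≤ 1 := by
    rw [Finite.card_le_one_iff_subsingleton]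
    refine ⟨fun C C' => ?_⟩
    suffices H : ∀ C : {C : ConjClasses ↥(commutator N) //
        ConjClasses.map e.toMonoidHom C = C}, C.1 = ConjClasses.mk 1 from
      Subtype.ext ((H C).trans (H C').symm)
    rintro ⟨C, hC⟩
    obtain ⟨l, rfl⟩ := ConjClasses.exists_rep C
    show ConjClasses.mk l = ConjClasses.mk 1
    congr 1
    obtain ⟨k, hk⟩ := isConj_iff.mp (ConjClasses.mk_eq_mk_iff_isConj.mp hC).symm
    have hk' : (k : N) * l * (k : N)⁻¹ = w * l * (w : N)⁻¹ := by
      have := congrArg Subtype.val hk
      simpa [he] using this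
    -- conjugate to the fixed point free element
    set v : N := (k : N)⁻¹ * w
    have hv : v * l = l * v := by
      calc v * l = (k : N)⁻¹ * (w * l * (w : N)⁻¹) * w := by simp only [v]; group
        _ = l * v := by rw [← hk']; simp only [v]; group
    obtain ⟨k', hk'L, w', hw', hvw⟩ := D.exists_mul v
    have hww : w' = (w : N) := by
      have hm : w' * (w : N)⁻¹ ∈ D.W ⊓ commutator N := Subgroup.mem_inf.mpr
        ⟨D.W.mul_mem hw' (D.W.inv_mem w.2), of_eq_one.mp (by
          have h1 : Abelianization.of v = Abelianization.of (w : N) := by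
            simp only [v, map_mul, map_inv, of_eq_one.mpr k.2, inv_one, one_mul]
          rw [hvw, map_mul, of_eq_one.mpr hk'L, one_mul] at h1
          rw [map_mul, map_inv, h1, mul_inv_cancel])⟩
      rwa [D.inf_eq, Subgroup.mem_bot, mul_inv_eq_one] at hm
    -- write `v` as a conjugate of `w`
    let f : ↥(commutator N) → ↥(commutator N) := fun a =>
      ⟨(a : N) * w * (a : N)⁻¹ * (w : N)⁻¹, by
        rw [← of_eq_one]
        simp only [map_mul, map_inv, of_eq_one.mpr a.2, inv_one, one_mul, mul_one, mul_inv_cancel]⟩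
    have hf : Function.Injective f := fun a b hab => by
      have h1 := congrArg Subtype.val hab
      simp only [f, mul_left_inj] at h1
      have h2 := D.fpf w w.2 hw ((b : N)⁻¹ * a)
        (Subgroup.mul_mem _ (Subgroup.inv_mem _ b.2) a.2) (by
          calc (b : N)⁻¹ * a * w = (b : N)⁻¹ * (a * w * (a : N)⁻¹) * a := by group
            _ = w * ((b : N)⁻¹ * a) := by rw [h1]; group)
      exact Subtype.ext (inv_mul_eq_one.mp h2).symm
    obtain ⟨a, ha⟩ := (Finite.injective_iff_surjective.mp hf) ⟨k', hk'L⟩
    have ha' := congrArg Subtype.val ha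
    simp only [f] at ha'
    have hva : v = (a : N) * w * (a : N)⁻¹ := by rw [hvw, hww, ← ha', inv_mul_cancel_right]
    have hl1 := D.fpf w w.2 hw ((a : N)⁻¹ * l * a) (by
        simpa using (inferInstance : (commutator N).Normal).conj_mem (l : N) l.2 (a : N)⁻¹) (by
      rw [hva] at hv
      calc (a : N)⁻¹ * l * a * w = (a : N)⁻¹ * ((l : N) * ((a : N) * w * (a : N)⁻¹)) * a := by group
        _ = w * ((a : N)⁻¹ * l * a) := by rw [← hv]; group)
    apply Subtype.ext
    calc (l : N) = (a : N) * ((a : N)⁻¹ * l * a) * (a : N)⁻¹ := by group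
      _ = 1 := by rw [hl1]; group
  have hirr := (card_fixed_irr_eq_classes e).le.trans hcls
  rw [Finite.card_le_one_iff_subsingleton] at hirr
  have h1 : (fun x => (β : ↥(commutator N) → ℂ) (e x)) =
      (β : ↥(commutator N) → ℂ) := by
    rw [conjBy_eq_comp] at h
    exact h
  exact congrArg (fun x => ((x.1 : IrrCharacter _) : ↥(commutator N) → ℂ))
    (hirr.elim ⟨β, h1⟩ ⟨⟨fun _ => 1, isIrrCharacter_one⟩, rfl⟩)

/-- Stabilisers consist of unmoved elements. -/
theorem fix_of_stab [Finite N] {w : D.W} (β : IrrCharacter ↥(commutator N))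
    (hβ : (β : ↥(commutator N) → ℂ) ≠ fun _ => 1)
    (h : w ∈ D.stab (β : ↥(commutator N) → ℂ)) : D.τ (w : N) = w := by
  by_contra hw
  exact hβ (D.eq_one_of_fixed hw β h)

/-- The operator moves each character inside its orbit. -/
theorem exists_move [Finite N] (β : IrrCharacter ↥(commutator N))
    (hβ : (β : ↥(commutator N) → ℂ) ≠ fun _ => 1) :
    ∃ w : D.W, ∀ l : ↥(commutator N),
      (β : ↥(commutator N) → ℂ) ⟨D.τ l, of_map_eq_one D.τ l.2⟩ =
        conjBy (commutator N) (β : ↥(commutator N) → ℂ) (w : N) l := by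
  classical
  haveI := Fintype.ofFinite N
  obtain ⟨ψ, hψ⟩ := exists_over (commutator N) β
  have hψ1 : (ψ : N → ℂ) 1 ≠ 1 := by
    intro h1
    apply hψ
    have e : (fun n : ↥(commutator N) => (ψ : N → ℂ) n) = fun _ => 1 := funext fun n => by
      by_contra hne
      exact not_linear_of_ne n.2 (by rw [h1]; exact hne) h1
    rw [e]
    exact classInner_irr_ne isIrrCharacter_one β.2 hβ.symm
  let e : ↥(commutator N) ≃* ↥(commutator N) :=
    { toFun := fun l => ⟨D.τ l, of_map_eq_one D.τ l.2⟩
      invFun := fun l => ⟨D.τ.symm l, of_map_eq_one D.τ.symm l.2⟩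
      left_inv := fun l => Subtype.ext (by simp)
      right_inv := fun l => Subtype.ext (by simp)
      map_mul' := fun a b => Subtype.ext (map_mul D.τ (a : N) b) }
  have h1 := classInner_comp_mulEquiv e (fun n : ↥(commutator N) => (ψ : N → ℂ) n)
    (β : ↥(commutator N) → ℂ)
  rw [show (fun l => (fun n : ↥(commutator N) => (ψ : N → ℂ) n) (e l)) =
    fun n : ↥(commutator N) => (ψ : N → ℂ) n from funext fun l => D.inv ψ hψ1 l] at h1
  obtain ⟨g, hg⟩ := exists_conjBy_of_constituents (commutator N) ψ.2 β.2
    (isIrrCharacter_comp_mulEquiv e β.2) hψ (by rw [h1]; exact hψ)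
  obtain ⟨l', hl', w, hw, rfl⟩ := D.exists_mul g
  rw [conjBy_mul, conjBy_mem _ (isClassFunction_irr β) hl'] at hg
  exact ⟨⟨w, hw⟩, fun l => (congrFun hg l).symm⟩

end Split

end CfsgLib.NDTwoComp
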