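import Cfsg.Agent.Lib.Char.Extraspecial
import Cfsg.Agent.Lib.Char.AutClasses
import Cfsg.Agent.Lib.Char.Constituents
import Cfsg.Agent.Lib.PrimeDegrees.Basic
import Cfsg.Agent.Lib.ThreeDegrees.Count
import Cfsg.Agent.S0033
import Cfsg.Agent.S0187

/-!
# Small character lemmas for the degree sets without divisibility
-/

set_option autoImplicit false
set_option linter.style.haveILetI false

namespace CfsgLib.NDTwoComp

open Cfsg CfsgLib.Char CfsgLib.PrimeDegrees
open scoped ComplexConjugate CfsgLib.Char

universe u

variable {G : Type u} [Group G]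

/-- No proper divisibilities between nonlinear degrees. -/
def NoDivDeg (G : Type u) [Group G] : Prop :=
  ∀ (χ χ' : IrrCharacter G) (d d' : ℕ),
    (χ : G → ℂ) 1 = d → (χ' : G → ℂ) 1 = d' → d ≠ 1 → d' ≠ 1 → d ∣ d' → d = d'

theorem not_linear_of_ne [Finite G] {χ : IrrCharacter G} {x : G} (hx : x ∈ commutator G)
    (hne : (χ : G → ℂ) x ≠ (χ : G → ℂ) 1) : (χ : G → ℂ) 1 ≠ 1 := by
  intro h1
  apply hne
  have hle : commutator G ≤ (linearHom (isCharacter_of_isIrr χ.2) h1).ker :=
    Abelianization.commutator_subset_ker _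
  have := congrArg Units.val (MonoidHom.mem_ker.mp (hle hx))
  rw [linearHom_apply, Units.val_one] at this
  rw [this, h1]

/-- Where all nonlinear characters vanish the class is a coset of the derived subgroup. -/
theorem class_of_vanish [Finite G] {x : G}
    (hx : ∀ χ : IrrCharacter G, (χ : G → ℂ) 1 ≠ 1 → (χ : G → ℂ) x = 0) :
    Nat.card (Subgroup.centralizer ({x} : Set G)) = (commutator G).index ∧
      ∀ z : G, z⁻¹ * x ∈ commutator G →
        (∀ χ : IrrCharacter G, (χ : G → ℂ) 1 ≠ 1 → (χ : G → ℂ) z = 0) → IsConj z x := by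
  classical
  haveI := Fintype.ofFinite G
  constructor
  · have h := column_orthogonality x x
    rw [if_pos (IsConj.refl x), ← Finset.sum_filter_add_sum_filter_not Finset.univ
      (fun χ : IrrCharacter G => (χ : G → ℂ) 1 = 1), Finset.sum_eq_card_nsmul (b := (1 : ℂ)),
      Finset.sum_eq_zero, add_zero, nsmul_eq_mul, mul_one, Nat.cast_inj] at h
    · rw [← h, ← Fintype.card_subtype, ← Nat.card_eq_fintype_card, card_linear]
    · intro χ hχ
      rw [hx χ (Finset.mem_filter.mp hχ).2, zero_mul]
    · intro χ hχ
      have h1 := (Finset.mem_filter.mp hχ).2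
      have := CfsgLib.ThreeDegrees.linear_mul_conj (linearHom (isCharacter_of_isIrr χ.2) h1) x
      simpa only [linearHom_apply] using this
  · intro z hz hz0
    rw [isConj_iff_irr_agree]
    intro χ
    by_cases h1 : (χ : G → ℂ) 1 = 1
    · have hle : commutator G ≤ (linearHom (isCharacter_of_isIrr χ.2) h1).ker :=
        Abelianization.commutator_subset_ker _
      have := MonoidHom.mem_ker.mp (hle hz)
      rw [map_mul, map_inv, inv_mul_eq_one] at this
      have := congrArg Units.val this
      simpa only [linearHom_apply] using this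
    · rw [hx χ h1, hz0 χ h1]

/-- Every character of a subgroup lies under an irreducible character. -/
theorem exists_over [Fintype G] (N : Subgroup G) [Fintype N] (θ : IrrCharacter N) :
    ∃ χ : IrrCharacter G, classInner (fun n : N => (χ : G → ℂ) n) (θ : N → ℂ) ≠ 0 := by
  classical
  obtain ⟨m, hm⟩ := exists_multiplicities (isCharacter_indFun N (isCharacter_of_isIrr θ.2))
  obtain ⟨χ, hχ⟩ : ∃ χ, m χ ≠ 0 := by
    by_contra h'
    push Not at h'
    have := congrFun hm 1
    simp only [indFun_one, h', Nat.cast_zero, zero_smul, Finset.sum_const_zero, Pi.zero_apply] at this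
    exact mul_ne_zero (Nat.cast_ne_zero.mpr N.index_ne_zero_of_finite) (irr_degree_ne_zero θ.2) this
  refine ⟨χ, ?_⟩
  rw [← frobenius_reciprocity' N _ (isClassFunction_of_isCharacter (isCharacter_of_isIrr χ.2)),
    ← classInner_conj_symm, hm, classInner_sum_smul_irr]
  simpa using hχ

/-- The linear characters separate the points outside the derived subgroup. -/
theorem exists_hom_ne [Finite G] {x : G} (hx : x ∉ commutator G) : ∃ μ : G →* ℂˣ, μ x ≠ 1 := by
  have h : Abelianization.of x ≠ (1 : Abelianization G) := fun e => hx (by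
    rwa [← MonoidHom.mem_ker, Abelianization.ker_of] at e)
  obtain ⟨φ, hφ⟩ := CommGroup.exists_apply_ne_one_of_hasEnoughRootsOfUnity (Abelianization G) ℂ h
  exact ⟨φ.comp Abelianization.of, hφ⟩

/-- The degree of a linear character induced from its inertia group, when it extends. -/
theorem degree_of_extension [Fintype G] (N : Subgroup G) [N.Normal] [Fintype N] {θ : N → ℂ}
    (hθ : IsIrrCharacter N θ) (η : inertia N θ → ℂ) (hη : IsIrrCharacter (inertia N θ) η) {c : ℕ}
    (hres : ∀ n : N, η ⟨(n : G), le_inertia N
      (isClassFunction_of_isCharacter (isCharacter_of_isIrr hθ)) n.2⟩ = (c : ℂ) * θ n)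
    (hc : c ≠ 0) :
    ∃ χ : IrrCharacter G, (χ : G → ℂ) = indFun (inertia N θ) η := by
  classical
  haveI : Fintype (inertia N θ) := Fintype.ofFinite _
  refine ⟨⟨_, (clifford_correspondence N (inertia N θ) hθ (fun g => mem_inertia N)
    (le_inertia N (isClassFunction_of_isCharacter (isCharacter_of_isIrr hθ))) hη ?_).1⟩, rfl⟩
  rw [show resTo N (inertia N θ) _ η = (c : ℂ) • θ from funext fun n => hres n,
    classInner_smul_left, classInner_irr_self hθ, mul_one]
  exact Nat.cast_ne_zero.mpr hc

end CfsgLib.NDTwoComp
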