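import Cfsg.Agent.Lib.NDTwoComp.Basic

/-!
# A moved element of prime order splits the group over its derived subgroup
-/

set_option autoImplicit false
set_option linter.style.haveILetI false

namespace CfsgLib.NDTwoComp

open Cfsg CfsgLib.Char
open scoped ComplexConjugate CfsgLib.Char commutatorElement

universe u

variable {N : Type u} [Group N]

/-- The data of a split group with an operator. -/
structure Split (N : Type u) [Group N] (q r : ℕ) where
  /-- The complement. -/
  W : Subgroup N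
  /-- The operator. -/
  τ : MulAut N
  /-- The moved element. -/
  y : N
  inf_eq : W ⊓ commutator N = ⊥
  exists_mul : ∀ n : N, ∃ l ∈ commutator N, ∃ w ∈ W, n = l * w
  comm : ∀ a ∈ W, ∀ b ∈ W, a * b = b * a
  pres : ∀ w ∈ W, τ w ∈ W
  inv : ∀ ψ : IrrCharacter N, (ψ : N → ℂ) 1 ≠ 1 → ∀ n, (ψ : N → ℂ) (τ n) = (ψ : N → ℂ) n
  pow_inner : ∃ t ∈ W, τ ^ r = MulAut.conj t
  fpf : ∀ w ∈ W, τ w ≠ w → ∀ l ∈ commutator N, l * w = w * l → l = 1
  y_mem : y ∈ W
  y_pow : y ^ q = 1
  y_moved : τ y ≠ y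
  nilpotent : Group.IsNilpotent (commutator N)

/-- The displacement modulo the derived subgroup. -/
def dbar (σ : MulAut N) : N →* Abelianization N where
  toFun x := Abelianization.of (σ x) * (Abelianization.of x)⁻¹
  map_one' := by simp
  map_mul' a b := by rw [map_mul, map_mul, map_mul, mul_inv, mul_mul_mul_comm]

theorem dbar_apply (σ : MulAut N) (x : N) :
    dbar σ x = Abelianization.of (σ x) * (Abelianization.of x)⁻¹ := rfl

theorem dbar_conj_mul (σ : MulAut N) (a x : N) : dbar (MulAut.conj a * σ) x = dbar σ x := by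
  rw [dbar_apply, dbar_apply]
  congr 1
  rw [MulAut.mul_apply, MulAut.conj_apply, map_mul, map_mul, map_inv, mul_comm (Abelianization.of a),
    mul_inv_cancel_right]

theorem dbar_of_mem (σ : MulAut N) {x : N} (hx : x ∈ commutator N) : dbar σ x = 1 := by
  have h := Abelianization.commutator_subset_ker (dbar σ) hx
  exact MonoidHom.mem_ker.mp h

theorem of_eq_one {x : N} : Abelianization.of x = 1 ↔ x ∈ commutator N := by
  rw [← MonoidHom.mem_ker, Abelianization.ker_of]

theorem of_map_eq_one (σ : MulAut N) {x : N} (hx : x ∈ commutator N) : σ x ∈ commutator N := by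
  have h : x ∈ (Abelianization.of.comp σ.toMonoidHom).ker := Abelianization.commutator_subset_ker _ hx
  rwa [MonoidHom.mem_ker, MonoidHom.comp_apply, of_eq_one] at h

/-- A moved element has moved image. -/
theorem dbar_map (σ : MulAut N) {x : N} (h : dbar σ x ≠ 1) : dbar σ (σ x) ≠ 1 := by
  intro e
  apply h
  rw [dbar_apply] at e ⊢
  rw [← map_inv, ← map_mul, of_eq_one] at e ⊢
  have := of_map_eq_one σ.symm e
  rwa [map_mul, map_inv, MulEquiv.symm_apply_apply, MulEquiv.symm_apply_apply] at this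

/-- Invariant nonlinear characters vanish at moved elements. -/
theorem vanish_of_moved [Finite N] {σ : MulAut N}
    (hinv : ∀ ψ : IrrCharacter N, (ψ : N → ℂ) 1 ≠ 1 → ∀ n, (ψ : N → ℂ) (σ n) = (ψ : N → ℂ) n)
    {w : N} (hw : dbar σ w ≠ 1) (ψ : IrrCharacter N) (hψ : (ψ : N → ℂ) 1 ≠ 1) :
    (ψ : N → ℂ) w = 0 := by
  haveI := Fintype.ofFinite N
  obtain ⟨μ, hμ⟩ := exists_hom_ne (x := σ w * w⁻¹) (fun e => hw (by
    rwa [← of_eq_one, map_mul, map_inv] at e))
  by_contra h0
  apply hμ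
  have h1 := hinv ⟨_, isIrrCharacter_linear_mul ψ.2 μ⟩ (by simpa using hψ) w
  dsimp only at h1
  rw [hinv ψ hψ w] at h1
  have h2 : μ (σ w) = μ w := Units.ext (mul_right_cancel₀ h0 h1)
  rw [map_mul, map_inv, h2, mul_inv_cancel]

theorem class_of_moved [Finite N] {σ : MulAut N}
    (hinv : ∀ ψ : IrrCharacter N, (ψ : N → ℂ) 1 ≠ 1 → ∀ n, (ψ : N → ℂ) (σ n) = (ψ : N → ℂ) n)
    {w : N} (hw : dbar σ w ≠ 1) :
    Nat.card (Subgroup.centralizer ({w} : Set N)) = (commutator N).index ∧
      ∀ z : N, z⁻¹ * w ∈ commutator N → IsConj z w := by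
  obtain ⟨h1, h2⟩ := class_of_vanish (x := w) fun ψ hψ => vanish_of_moved hinv hw ψ hψ
  refine ⟨h1, fun z hz => h2 z hz fun ψ hψ => vanish_of_moved hinv ?_ ψ hψ⟩
  have := dbar_of_mem σ hz
  rw [map_mul, map_inv, inv_mul_eq_one] at this
  rwa [this]

/-- A moved element of prime order. -/
theorem exists_moved_order [Finite N] {σ : MulAut N} {q r : ℕ} (hq : q.Prime) (hr : r.Prime)
    (hqr : r ≠ q) (hσr : ∃ t, σ ^ r = MulAut.conj t) (hqL : ¬ q ∣ Nat.card (commutator N))
    {y : N} {k : ℕ} (hyk : y ^ q ^ k = 1) (hy : dbar σ y ≠ 1) :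
    ∃ z : N, z ^ q = 1 ∧ dbar σ z ≠ 1 := by
  classical
  have hex : ∃ i, dbar σ (y ^ q ^ i) = 1 := ⟨k, by rw [hyk, map_one]⟩
  obtain ⟨i, hi⟩ : ∃ i, Nat.find hex = i + 1 := by
    refine Nat.exists_eq_succ_of_ne_zero fun e => hy ?_
    have := Nat.find_spec hex
    rwa [e, pow_zero, pow_one] at this
  obtain ⟨x, hx, hxq⟩ : ∃ x, dbar σ x ≠ 1 ∧ dbar σ x ^ q = 1 :=
    ⟨y ^ q ^ i, Nat.find_min hex (by omega), by
      rw [← map_pow, ← pow_mul, ← pow_succ, ← hi]
      exact Nat.find_spec hex⟩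
  set u := σ x * x⁻¹ with hu
  have hu' : Abelianization.of u = dbar σ x := by rw [hu, map_mul, map_inv, dbar_apply]
  clear_value u
  have huq : u ^ q ∈ commutator N := by rw [← of_eq_one, map_pow, hu', hxq]
  have hu_moved : dbar σ u ≠ 1 := by
    intro e
    have hfix : Abelianization.of (σ u) = Abelianization.of u := by
      rwa [dbar_apply, mul_inv_eq_one] at e
    have hfixpow : ∀ j : ℕ, Abelianization.of ((σ ^ j) x) = Abelianization.of (u ^ j * x) := by
      intro j
      induction j with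
      | zero => simp
      | succ j ih =>
        rw [pow_succ', MulAut.mul_apply]
        have h' : σ ((u ^ j * x)⁻¹ * (σ ^ j) x) ∈ commutator N :=
          of_map_eq_one σ (by rw [← of_eq_one, map_mul, map_inv, ih, inv_mul_cancel])
        rw [map_mul, map_inv, ← of_eq_one, map_mul, map_inv, inv_mul_eq_one] at h'
        rw [← h', map_mul, map_mul, map_pow, map_pow, hfix, map_mul, map_pow, pow_succ, mul_assoc]
        congr 1
        rw [← map_mul, hu, inv_mul_cancel_right]
    obtain ⟨t, ht⟩ := hσr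
    have hr1 : dbar σ x ^ r = 1 := by
      have := hfixpow r
      rw [ht, MulAut.conj_apply, map_mul, map_mul, map_inv, mul_comm (Abelianization.of t),
        mul_inv_cancel_right, map_mul, map_pow, hu', eq_comm, mul_eq_right] at this
      exact this
    have := pow_gcd_eq_one.mpr ⟨hxq, hr1⟩
    rw [(Nat.coprime_primes hq hr).mpr hqr.symm, pow_one] at this
    exact hx this
  set m := Nat.card (commutator N)
  refine ⟨u ^ m, ?_, fun e => hu_moved ?_⟩
  · rw [← pow_mul, mul_comm, pow_mul]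
    exact congrArg Subtype.val (pow_card_eq_one' (x := (⟨u ^ q, huq⟩ : commutator N)))
  · rw [map_pow] at e
    have h1 : dbar σ u ^ q = 1 := by rw [← map_pow]; exact dbar_of_mem σ huq
    have := pow_gcd_eq_one.mpr ⟨h1, e⟩
    rwa [(hq.coprime_iff_not_dvd).mpr hqL, pow_one] at this

theorem exists_split [Finite N] {σ : MulAut N} {q r : ℕ} (hq : q.Prime) (hr : r.Prime)
    (hqr : r ≠ q) (hσr : ∃ t, σ ^ r = MulAut.conj t) (hqL : ¬ q ∣ Nat.card (commutator N))
    (hinv : ∀ ψ : IrrCharacter N, (ψ : N → ℂ) 1 ≠ 1 → ∀ n, (ψ : N → ℂ) (σ n) = (ψ : N → ℂ) n)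
    {y₀ : N} {k : ℕ} (hyk : y₀ ^ q ^ k = 1) (hy₀ : dbar σ y₀ ≠ 1) :
    Nonempty (Split N q r) := by
  classical
  obtain ⟨y, hyq, hy⟩ := exists_moved_order hq hr hqr hσr hqL hyk hy₀
  set L := commutator N
  set W := Subgroup.centralizer ({y} : Set N) with hW
  have hyW : y ∈ W := by rw [hW, Subgroup.mem_centralizer_singleton_iff]
  obtain ⟨hWcard, hyclass⟩ := class_of_moved hinv hy
  have hWL : W ⊓ L = ⊥ := by
    rw [Subgroup.eq_bot_iff_forall]
    intro l hl
    obtain ⟨hlW, hlL⟩ := Subgroup.mem_inf.mp hl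
    rw [hW, Subgroup.mem_centralizer_singleton_iff] at hlW
    obtain ⟨g, hg⟩ := isConj_iff.mp (hyclass (y * l) (by
      rw [mul_inv_rev, mul_assoc, inv_mul_cancel, mul_one]; exact L.inv_mem hlL))
    have h1 : (y * l) ^ q = 1 := by
      have h2 : (g * (y * l) * g⁻¹) ^ q = 1 := by rw [hg, hyq]
      rwa [conj_pow, mul_inv_eq_one, mul_eq_left] at h2
    rw [Commute.mul_pow (Commute.symm hlW : Commute y l), hyq, one_mul] at h1
    have h3 : (⟨l, hlL⟩ : L) ^ q = 1 := Subtype.ext h1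
    have h4 := orderOf_dvd_of_pow_eq_one h3
    rcases (Nat.dvd_prime hq).mp h4 with h | h
    · exact congrArg Subtype.val (orderOf_eq_one_iff.mp h)
    · exact absurd (h ▸ orderOf_dvd_natCard (⟨l, hlL⟩ : L)) hqL
  have hmul : ∀ n : N, ∃ l ∈ L, ∃ w ∈ W, n = l * w := by
    have hinj : Function.Injective (fun w : W => Abelianization.of (w : N)) := fun a b h => by
      have h : Abelianization.of (a : N) = Abelianization.of (b : N) := h
      have hm : (a : N)⁻¹ * b ∈ W ⊓ L := Subgroup.mem_inf.mpr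
        ⟨W.mul_mem (W.inv_mem a.2) b.2, of_eq_one.mp (by rw [map_mul, map_inv, h, inv_mul_cancel])⟩
      rw [hWL, Subgroup.mem_bot, inv_mul_eq_one] at hm
      exact Subtype.ext hm
    have hc : Nat.card W = Nat.card (Abelianization N) := hWcard
    intro n
    obtain ⟨w, hw⟩ := (hinj.bijective_of_nat_card_le hc.ge).surjective (Abelianization.of n)
    exact ⟨n * (w : N)⁻¹, of_eq_one.mp (by rw [map_mul, map_inv, ← hw, mul_inv_cancel]), w, w.2,
      (inv_mul_cancel_right _ _).symm⟩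
  have hcomm : ∀ a ∈ W, ∀ b ∈ W, a * b = b * a := fun a ha b hb => by
    rw [← commutatorElement_eq_one_iff_mul_comm]
    have hm : ⁅a, b⁆ ∈ W ⊓ L := Subgroup.mem_inf.mpr
      ⟨(commutatorElement_def a b).symm ▸ W.mul_mem (W.mul_mem (W.mul_mem ha hb) (W.inv_mem ha))
        (W.inv_mem hb), Subgroup.commutator_mem_commutator (Subgroup.mem_top a) (Subgroup.mem_top b)⟩
    rwa [hWL, Subgroup.mem_bot] at hm
  have hCW : ∀ w ∈ W, dbar σ w ≠ 1 → Subgroup.centralizer ({w} : Set N) = W := by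
    intro w hw hm
    refine (Subgroup.eq_of_le_of_card_ge (fun a ha => ?_) ?_).symm
    · exact Subgroup.mem_centralizer_singleton_iff.mpr (hcomm a ha w hw)
    · rw [(class_of_moved hinv hm).1, hWcard]
  -- adjust the operator
  have hσy := dbar_map σ hy
  obtain ⟨l, hl, w', hw', hlw⟩ := hmul (σ y)
  have hcl : IsConj w' (σ y) := (class_of_moved hinv hσy).2 w' (by
    rw [hlw, ← mul_assoc]
    simpa using (inferInstance : (commutator N).Normal).conj_mem l hl w'⁻¹)
  obtain ⟨a, ha⟩ := isConj_iff.mp hcl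
  set τ := MulAut.conj a⁻¹ * σ
  have hτy : τ y = w' := by
    show MulAut.conj a⁻¹ (σ y) = w'
    rw [MulAut.conj_apply, ← ha]; group
  have hw'm : dbar σ w' ≠ 1 := by
    intro e
    apply hσy
    rw [hlw, map_mul, e, mul_one]
    exact dbar_of_mem σ hl
  have hinv' : ∀ ψ : IrrCharacter N, (ψ : N → ℂ) 1 ≠ 1 → ∀ n, (ψ : N → ℂ) (τ n) = (ψ : N → ℂ) n :=
    fun ψ hψ n => by
      show (ψ : N → ℂ) (MulAut.conj a⁻¹ (σ n)) = _
      rw [MulAut.conj_apply, isClassFunction_irr ψ, hinv ψ hψ n]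
  have hpres : ∀ w ∈ W, τ w ∈ W := fun w hw => by
    rw [← hCW w' hw' hw'm, Subgroup.mem_centralizer_singleton_iff, ← hτy, ← map_mul, ← map_mul,
      hcomm w hw y hyW]
  have hmoved : ∀ w ∈ W, (τ w ≠ w ↔ dbar σ w ≠ 1) := by
    intro w hw
    rw [not_iff_not, ← dbar_conj_mul σ a⁻¹ w]
    constructor
    · intro e; rw [dbar_apply, show (MulAut.conj a⁻¹ * σ) w = w from e, mul_inv_cancel]
    · intro e
      rw [dbar_apply, ← map_inv, ← map_mul, of_eq_one] at e
      have hm : τ w * w⁻¹ ∈ W ⊓ L :=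
        Subgroup.mem_inf.mpr ⟨W.mul_mem (hpres w hw) (W.inv_mem hw), e⟩
      rwa [hWL, Subgroup.mem_bot, mul_inv_eq_one] at hm
  have hfpf : ∀ w ∈ W, τ w ≠ w → ∀ l ∈ L, l * w = w * l → l = 1 := by
    intro w hw hm l hl hc
    have hlW : l ∈ W := by
      rw [← hCW w hw ((hmoved w hw).mp hm)]
      exact Subgroup.mem_centralizer_singleton_iff.mpr hc
    have : l ∈ W ⊓ L := Subgroup.mem_inf.mpr ⟨hlW, hl⟩
    rwa [hWL, Subgroup.mem_bot] at this
  obtain ⟨t, ht⟩ := hσr
  have hpow : ∀ i : ℕ, ∃ b, τ ^ i = MulAut.conj b * σ ^ i := by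
    intro i
    induction i with
    | zero => exact ⟨1, by simp⟩
    | succ i ih =>
      obtain ⟨b, hb⟩ := ih
      refine ⟨a⁻¹ * σ b, MulEquiv.ext fun x => ?_⟩
      rw [pow_succ', pow_succ', hb]
      simp only [τ, MulAut.mul_apply, MulAut.conj_apply, map_mul, map_inv, mul_inv_rev, mul_assoc]
  obtain ⟨b, hb⟩ := hpow r
  rw [ht, ← map_mul] at hb
  have hpr : ∀ i : ℕ, ∀ w ∈ W, (τ ^ i) w ∈ W := by
    intro i
    induction i with
    | zero => exact fun w hw => by simpa using hw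
    | succ i ih => exact fun w hw => by rw [pow_succ', MulAut.mul_apply]; exact hpres _ (ih w hw)
  have htW : b * t ∈ W := by
    obtain ⟨l, hl, w, hw, e⟩ := hmul (b * t)
    suffices l = 1 by rw [e, this, one_mul]; exact hw
    have h1 := hpr r y hyW
    rw [hb, MulAut.conj_apply, e, show l * w * y * (l * w)⁻¹ = l * (w * y * w⁻¹) * l⁻¹ by group,
      hcomm w hw y hyW, mul_inv_cancel_right] at h1
    have hm : y⁻¹ * (l * y * l⁻¹) ∈ W ⊓ L := Subgroup.mem_inf.mpr ⟨W.mul_mem (W.inv_mem hyW) h1, by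
      rw [← of_eq_one, map_mul, map_inv, map_mul, map_mul, map_inv, of_eq_one.mpr hl, inv_one,
        mul_one, one_mul, inv_mul_cancel]⟩
    rw [hWL, Subgroup.mem_bot, inv_mul_eq_one, eq_mul_inv_iff_mul_eq] at hm
    exact hfpf y hyW ((hmoved y hyW).mpr hy) l hl hm.symm
  -- the derived subgroup is nilpotent
  have hnil : Group.IsNilpotent L := by
    by_cases hL : L = ⊥
    · haveI : Subsingleton L := by rw [hL]; infer_instance
      infer_instance
    set φ : MulAut L := MulAut.conjNormal y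
    have hfix : ∀ l : L, φ l = l → l = 1 := fun l hl => by
      have h := congrArg Subtype.val hl
      rw [MulAut.conjNormal_apply, mul_inv_eq_iff_eq_mul] at h
      exact Subtype.ext (hfpf y hyW ((hmoved y hyW).mpr hy) l l.2 h.symm)
    refine Cfsg.Agent.S0033.result φ (fun l hl => hfix l hl) q hq ?_
    haveI := Fact.mk hq
    refine orderOf_eq_prime (by rw [← map_pow, hyq, map_one]) fun e => hL ?_
    rw [Subgroup.eq_bot_iff_forall]
    exact fun l hl => congrArg Subtype.val (hfix ⟨l, hl⟩ (by rw [e]; rfl))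
  exact ⟨{
    W := W, τ := τ, y := y, inf_eq := hWL, exists_mul := hmul, comm := hcomm, pres := hpres,
    inv := hinv', pow_inner := ⟨b * t, htW, hb⟩, fpf := hfpf, y_mem := hyW, y_pow := hyq,
    y_moved := (hmoved y hyW).mpr hy, nilpotent := hnil }⟩

end CfsgLib.NDTwoComp
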