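import Mathlib.GroupTheory.GroupAction.Quotient
import Mathlib.GroupTheory.Coset.Card
import Mathlib.GroupTheory.Index
import Mathlib.GroupTheory.Perm.Cycle.Type
import Mathlib.Data.Nat.GCD.Basic
import Mathlib.GroupTheory.PGroup
import Mathlib.Tactic.Linarith

/-!
# Semiregular abelian operator groups with a twisted operator

A counting argument: if an operator moves every element within its orbit then the group of
displacements is large.
-/

set_option autoImplicit false

namespace CfsgLib.NDTwoComp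

universe u v

/-- The order of a semiregular group divides the number of nontrivial elements. -/
theorem card_dvd_pred {U : Type u} {X : Type v} [Group U] [Group X] [Finite X]
    (α : U →* MulAut X) (hfree : ∀ u, u ≠ 1 → ∀ x, α u x = x → x = 1) :
    Nat.card U ∣ Nat.card X - 1 := by
  classical
  haveI := Fintype.ofFinite X
  let Y := {x : X // x ≠ 1}
  letI : MulAction U Y :=
    { smul := fun u x => ⟨α u x.1, fun h => x.2 ((α u).map_eq_one_iff.mp h)⟩
      one_smul := fun x => Subtype.ext (by show α 1 x.1 = x.1; simp)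
      mul_smul := fun a b x => Subtype.ext (by show α (a * b) x.1 = α a (α b x.1); simp) }
  have hstab : ∀ x : Y, MulAction.stabilizer U x = ⊥ := fun x => by
    rw [Subgroup.eq_bot_iff_forall]
    intro u hu
    by_contra hu1
    exact x.2 (hfree u hu1 x.1 (congrArg Subtype.val (MulAction.mem_stabilizer_iff.mp hu)))
  have h := Nat.card_congr (MulAction.selfEquivOrbitsQuotientProd hstab)
  rw [Nat.card_prod] at h
  have hY : Nat.card Y = Nat.card X - 1 := by
    rw [Nat.card_eq_fintype_card, Nat.card_eq_fintype_card, Fintype.card_subtype_compl,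
      Fintype.card_subtype_eq]
  rw [← hY, h]
  exact dvd_mul_left _ _

/-- A large semiregular group leaves only an elementary abelian module. -/
theorem exists_prime_exponent {U : Type u} {V : Type v} [Group U] [CommGroup V] [Finite V]
    (α : U →* MulAut V) (hfree : ∀ u, u ≠ 1 → ∀ x, α u x = x → x = 1) (hV : 1 < Nat.card V)
    (hbig : Nat.card V < Nat.card U ^ 2) :
    ∃ (p n : ℕ), p.Prime ∧ 0 < n ∧ Nat.card V = p ^ n := by
  obtain ⟨p, hp, hpV⟩ := Nat.exists_prime_and_dvd hV.ne'
  haveI := Fact.mk hp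
  set M : Subgroup V := (powMonoidHom p : V →* V).ker with hM
  obtain ⟨x, hx⟩ := exists_prime_orderOf_dvd_card' (G := V) p hpV
  have hxM : x ∈ M := by
    rw [hM, MonoidHom.mem_ker, powMonoidHom_apply, ← hx, pow_orderOf_eq_one]
  have hM1 : 1 < Nat.card M := (Subgroup.one_lt_card_iff_ne_bot M).mpr fun e => by
    rw [e, Subgroup.mem_bot] at hxM
    rw [hxM, orderOf_one] at hx
    exact hp.one_lt.ne hx
  have hinv : ∀ u, ∀ m ∈ M, α u m ∈ M := fun u m hm => by
    rw [hM, MonoidHom.mem_ker, powMonoidHom_apply] at hm ⊢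
    rw [← map_pow, hm, map_one]
  let β : U →* MulAut M :=
    { toFun := fun u =>
        { toFun := fun m => ⟨α u m, hinv u m m.2⟩
          invFun := fun m => ⟨α u⁻¹ m, hinv u⁻¹ m m.2⟩
          left_inv := fun m => Subtype.ext (by simp)
          right_inv := fun m => Subtype.ext (by simp)
          map_mul' := fun a b => Subtype.ext (map_mul (α u) (a : V) b) }
      map_one' := MulEquiv.ext fun m => Subtype.ext (by simp)
      map_mul' := fun a b => MulEquiv.ext fun m => Subtype.ext (by simp) }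
  have d1 := card_dvd_pred α hfree
  have d2 := card_dvd_pred β fun u hu m hm =>
    Subtype.ext (hfree u hu m (congrArg Subtype.val hm))
  have hk : Nat.card M * M.index = Nat.card V := M.card_mul_index
  have hk1 : M.index = 1 := by
    by_contra hne
    have hkpos : 0 < M.index := Nat.pos_of_ne_zero Subgroup.index_ne_zero_of_finite
    have hk2 : 1 < M.index := by omega
    have e : Nat.card V - 1 = (Nat.card M - 1) * M.index + (M.index - 1) := by
      rw [← hk, Nat.sub_mul, one_mul]
      have : M.index ≤ Nat.card M * M.index := Nat.le_mul_of_pos_left _ (by omega)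
      omega
    have d3 : Nat.card U ∣ M.index - 1 :=
      (Nat.dvd_add_right (d2.mul_right _)).mp (e ▸ d1)
    have l1 : Nat.card U < Nat.card M := by
      have := Nat.le_of_dvd (by omega) d2
      omega
    have l2 : Nat.card U < M.index := by
      have := Nat.le_of_dvd (by omega) d3
      omega
    have : Nat.card U * Nat.card U ≤ Nat.card M * M.index := Nat.mul_le_mul l1.le l2.le
    rw [sq] at hbig
    omega
  have hall : ∀ v : V, v ^ p = 1 := fun v => by
    have : v ∈ M := Subgroup.index_eq_one.mp hk1 ▸ Subgroup.mem_top v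
    rwa [hM, MonoidHom.mem_ker, powMonoidHom_apply] at this
  obtain ⟨n, hn⟩ := IsPGroup.iff_card.mp (show IsPGroup p V from fun v => ⟨1, by simpa using hall v⟩)
  refine ⟨p, n, hp, Nat.pos_of_ne_zero fun e => ?_, hn⟩
  rw [e, pow_zero] at hn
  omega

/-- The numerical contradiction. -/
theorem gcd_contradiction {u p n z : ℕ} (hp : p.Prime) (hz : 0 < z) (hzn : z < n)
    (h1 : u ∣ p ^ n - 1) (h2 : u ∣ p ^ z - 1) (hbig : p ^ n < u ^ 2) : False := by
  have h := Nat.dvd_gcd h1 h2
  rw [Nat.pow_sub_one_gcd_pow_sub_one] at h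
  set g := Nat.gcd n z with hg
  have hgz : g ≤ z := Nat.le_of_dvd hz (Nat.gcd_dvd_right n z)
  have hg0 : 0 < g := Nat.gcd_pos_of_pos_right n hz
  obtain ⟨k, hk⟩ : g ∣ n := Nat.gcd_dvd_left n z
  have hk2 : 2 ≤ k := by
    rcases k with _ | _ | k
    · rw [Nat.mul_zero] at hk; omega
    · rw [Nat.mul_one] at hk; omega
    · omega
  have h2g : g + g ≤ n := by
    rw [hk]; nlinarith
  have hpg : 1 < p ^ g := Nat.one_lt_pow hg0.ne' hp.one_lt
  have hle : u ≤ p ^ g := (Nat.le_of_dvd (by omega) h).trans (Nat.sub_le _ _)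
  have : u * u ≤ p ^ n := (Nat.mul_le_mul hle hle).trans
    (by rw [← pow_add]; exact Nat.pow_le_pow_right hp.pos h2g)
  rw [sq] at hbig
  omega

variable {W : Type u} {V : Type v} [CommGroup W] [CommGroup V]

/-- The displacement homomorphism. -/
def disp (τ : MulAut W) : W →* W where
  toFun a := τ a * a⁻¹
  map_one' := by simp
  map_mul' a b := by rw [map_mul, mul_inv, mul_mul_mul_comm]

theorem disp_apply (τ : MulAut W) (a : W) : disp τ a = τ a * a⁻¹ := rfl

/-- An operator moving each element inside its orbit has large displacement group. -/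
theorem card_lt_sq_range [Finite W] [Finite V] (α : W →* MulAut V) (c : MulAut V) (τ : MulAut W)
    (S0 : Subgroup W) (hS : ∀ a ∈ S0, ∀ v, α a v = v)
    (hfree : ∀ a v, v ≠ 1 → α a v = v → a ∈ S0)
    (hcomm : ∀ a v, c (α a v) = α (τ a) (c v)) (hmove : ∀ v, ∃ w, c v = α w v)
    {r : ℕ} (hcr : ∃ t, ∀ v, (c ^ r) v = α t v)
    (hcop : r.Coprime S0.index) (hV : 1 < Nat.card V) (y : W) (hy : disp τ y ∉ S0) :
    Nat.card V < Nat.card (disp τ).range ^ 2 := by
  classical
  haveI := Fintype.ofFinite V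
  set U := (disp τ).range with hU
  haveI : Nontrivial V := Finite.one_lt_card_iff_nontrivial.mp hV
  obtain ⟨v0, hv0⟩ := exists_ne (1 : V)
  obtain ⟨w0, hw0⟩ := hmove v0
  -- normalise the operator so that it fixes a point
  set c0 : MulAut V := α w0⁻¹ * c with hc0
  have c0v : ∀ v, c0 v = α w0⁻¹ (c v) := fun v => rfl
  have hαmul : ∀ a b v, α (a * b) v = α a (α b v) := fun a b v => by simp
  have hcomm0 : ∀ a v, c0 (α a v) = α (τ a) (c0 v) := fun a v => by
    rw [c0v, c0v, hcomm, ← hαmul, ← hαmul, mul_comm]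
  have hmove0 : ∀ v, ∃ w, c0 v = α w v := fun v => by
    obtain ⟨w, hw⟩ := hmove v
    exact ⟨w0⁻¹ * w, by rw [c0v, hw, hαmul]⟩
  have hfix0 : c0 v0 = v0 := by rw [c0v, hw0, ← hαmul, inv_mul_cancel, map_one]; rfl
  have hpow : ∀ i : ℕ, ∃ t, ∀ v, (c0 ^ i) v = α t ((c ^ i) v) := by
    intro i
    induction i with
    | zero => exact ⟨1, fun v => by simp⟩
    | succ i ih =>
      obtain ⟨t, ht⟩ := ih
      refine ⟨w0⁻¹ * τ t, fun v => ?_⟩
      rw [pow_succ' c0, pow_succ' c]
      show c0 ((c0 ^ i) v) = α (w0⁻¹ * τ t) (c ((c ^ i) v))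
      rw [ht, c0v, hcomm, hαmul]
  have hfixpow : ∀ i : ℕ, (c0 ^ i) v0 = v0 := by
    intro i
    induction i with
    | zero => simp
    | succ i ih => rw [pow_succ', MulAut.mul_apply, ih, hfix0]
  have hc0r : ∀ v, (c0 ^ r) v = v := by
    obtain ⟨t, ht⟩ := hpow r
    obtain ⟨t', ht'⟩ := hcr
    have h' : ∀ v, (c0 ^ r) v = α (t * t') v := fun v => by rw [ht, ht', hαmul]
    have hmem := hfree (t * t') v0 hv0 (by rw [← h']; exact hfixpow r)
    exact fun v => by rw [h']; exact hS _ hmem v
  -- the fixed points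
  let F : Subgroup V :=
    { carrier := {v | c0 v = v}
      one_mem' := map_one c0
      mul_mem' := fun {a b} ha hb => by
        show c0 (a * b) = a * b
        rw [map_mul, show c0 a = a from ha, show c0 b = b from hb]
      inv_mem' := fun {a} ha => by
        show c0 a⁻¹ = a⁻¹
        rw [map_inv, show c0 a = a from ha] }
  have hτ : ∀ a, τ a = disp τ a * a := fun a => by rw [disp_apply, inv_mul_cancel_right]
  have hcover : ∀ v, v ≠ 1 → ∃ a : W, α a⁻¹ v ∈ F := by
    intro v hv
    obtain ⟨w, hw⟩ := hmove0 v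
    set P := U ⊔ S0 with hP
    have hUτ : ∀ a, ((τ a : W) : W ⧸ P) = a := fun a => by
      rw [hτ a, QuotientGroup.mk_mul,
        (QuotientGroup.eq_one_iff _).mpr (Subgroup.mem_sup_left (⟨a, rfl⟩ : disp τ a ∈ U)), one_mul]
    have hiter : ∀ i : ℕ, ∃ m, (c0 ^ i) v = α m v ∧ (m : W ⧸ P) = (w : W ⧸ P) ^ i := by
      intro i
      induction i with
      | zero => exact ⟨1, by simp, by simp⟩
      | succ i ih =>
        obtain ⟨m, hm, hm'⟩ := ih
        refine ⟨τ m * w, ?_, ?_⟩
        · rw [pow_succ', MulAut.mul_apply, hm, hcomm0, hw, hαmul]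
        · rw [QuotientGroup.mk_mul, hUτ, hm', ← pow_succ]
    obtain ⟨m, hm, hm'⟩ := hiter r
    have hmS : m ∈ S0 := hfree m v hv (by rw [← hm, hc0r])
    rw [(QuotientGroup.eq_one_iff m).mpr (Subgroup.mem_sup_right hmS)] at hm'
    have hwP : w ∈ P := by
      rw [← QuotientGroup.eq_one_iff]
      have hc : (Nat.card (W ⧸ P)).Coprime r :=
        (hcop.coprime_dvd_right (Subgroup.index_dvd_of_le le_sup_right)).symm
      exact (powCoprime hc).injective (by simp [powCoprime, ← hm'])
    obtain ⟨u, ⟨a, rfl⟩, s, hs, hus⟩ := Subgroup.mem_sup.mp hwP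
    refine ⟨a, ?_⟩
    show c0 (α a⁻¹ v) = α a⁻¹ v
    rw [hcomm0, hw, ← hus, hαmul (disp τ a), hS s hs, ← hαmul, map_inv τ, hτ a, mul_inv_rev,
      inv_mul_cancel_right]
  have hpres : ∀ a, disp τ a = 1 → ∀ f ∈ F, α a f ∈ F := fun a ha f hf => by
    show c0 (α a f) = α a f
    rw [hcomm0, hτ, ha, one_mul, show c0 f = f from hf]
  -- the count
  have hsec : ∀ u : U, ∃ a, disp τ a = u := fun u => u.2
  choose sec hsec using hsec
  have hsurj : Function.Surjective (fun x : U × {f : F // f ≠ 1} =>
      (⟨α (sec x.1) (x.2.1 : V), fun h => x.2.2 (Subtype.ext ((α _).map_eq_one_iff.mp h))⟩ :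
        {v : V // v ≠ 1})) := by
    rintro ⟨v, hv⟩
    obtain ⟨a, ha⟩ := hcover v hv
    set u : U := ⟨disp τ a, a, rfl⟩
    have hd : disp τ ((sec u)⁻¹ * a) = 1 := by rw [map_mul, map_inv, hsec u, inv_mul_cancel]
    have hf := hpres _ hd _ ha
    rw [← hαmul, mul_inv_cancel_right] at hf
    refine ⟨(u, ⟨⟨α (sec u)⁻¹ v, hf⟩, fun e => hv ?_⟩), Subtype.ext ?_⟩
    · exact (α _).map_eq_one_iff.mp (congrArg Subtype.val e)
    · show α (sec u) (α (sec u)⁻¹ v) = v
      rw [← hαmul, mul_inv_cancel, map_one]; rfl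
  haveI : Fintype F := Fintype.ofFinite _
  haveI : Fintype U := Fintype.ofFinite _
  have hle := Nat.card_le_card_of_surjective _ hsurj
  have hne1 : ∀ (X : Type v) [Group X] [Fintype X] [DecidableEq X],
      Nat.card {x : X // x ≠ 1} = Nat.card X - 1 := fun X _ _ _ => by
    rw [Nat.card_eq_fintype_card, Nat.card_eq_fintype_card, Fintype.card_subtype_compl,
      Fintype.card_subtype_eq]
  rw [Nat.card_prod, hne1, hne1] at hle
  -- two translates of the fixed points meet trivially
  have hinj : Function.Injective (fun x : F × F => (x.1 : V) * α y x.2) := by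
    intro x x' h
    set f1 : F := x'.1⁻¹ * x.1
    set f2 : F := x'.2 * x.2⁻¹
    have h' : (f1 : V) = α y f2 := by
      have hx : (x.1 : V) * α y x.2 = x'.1 * α y x'.2 := h
      simp only [f1, f2, Subgroup.coe_mul, InvMemClass.coe_inv, map_mul, map_inv]
      rw [inv_mul_eq_iff_eq_mul, ← mul_assoc, eq_mul_inv_iff_mul_eq, hx]
    have hf2 : (f2 : V) = 1 := by
      by_contra hne
      have h1 : c0 (α y f2) = α y f2 := by rw [← h']; exact f1.2
      rw [hcomm0, show c0 f2 = (f2 : V) from f2.2, hτ, hαmul] at h1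
      exact hy (hfree _ _ (fun e => hne ((α y).map_eq_one_iff.mp e)) h1)
    have hf1 : (f1 : V) = 1 := by rw [h', hf2, map_one]
    exact Prod.ext (inv_mul_eq_one.mp (Subtype.ext hf1 : f1 = 1)).symm
      (mul_inv_eq_one.mp (Subtype.ext hf2 : f2 = 1)).symm
  have hF := Nat.card_le_card_of_injective _ hinj
  rw [Nat.card_prod] at hF
  have hU2 : 2 ≤ Nat.card U := Finite.one_lt_card_iff_nontrivial.mpr
    ⟨⟨disp τ y, y, rfl⟩, 1, fun e => hy (by
      rw [show disp τ y = 1 from congrArg Subtype.val e]; exact one_mem S0)⟩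
  by_contra hlt
  rw [not_lt, sq] at hlt
  generalize Nat.card U = a at *
  generalize Nat.card F = b at *
  rcases b with _ | b
  · simp only [Nat.zero_sub, Nat.mul_zero] at hle; omega
  · simp only [Nat.add_sub_cancel] at hle
    have h2 := two_mul_le_add_sq a (b + 1)
    rw [sq, sq] at h2
    generalize Nat.card V = v at *
    have hle' : v ≤ a * b + 1 := by omega
    nlinarith

end CfsgLib.NDTwoComp
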