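import Cfsg.Agent.Lib.NDTwoComp.Action
import Cfsg.Agent.Lib.NDTwoComp.Module

/-!
# All nonlinear degrees of the split group are equal
-/

set_option autoImplicit false
set_option linter.style.haveILetI false

namespace CfsgLib.NDTwoComp

open Cfsg CfsgLib.Char CfsgLib.PrimeDegrees
open scoped ComplexConjugate CfsgLib.Char

universe u

variable {N : Type u} [Group N] {q r : ℕ}

/-- The unit-valued homomorphisms of the derived subgroup. -/
abbrev Lin (N : Type u) [Group N] := ↥(commutator N) →* ℂˣ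

/-- The associated character. -/
noncomputable def chi (ν : Lin N) : IrrCharacter ↥(commutator N) :=
  ⟨fun l => (ν l : ℂ), isIrrCharacter_monoidHom ν⟩

theorem chi_apply (ν : Lin N) (l : ↥(commutator N)) :
    (chi ν : ↥(commutator N) → ℂ) l = (ν l : ℂ) := rfl

theorem chi_ne_one {ν : Lin N} (hν : ν ≠ 1) : (chi ν : ↥(commutator N) → ℂ) ≠ fun _ => 1 :=
  fun e => hν (MonoidHom.ext fun l => Units.ext (congrFun e l))

theorem card_lin [Finite N] : Nat.card (Lin N) = (commutator ↥(commutator N)).index := by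
  rw [← Nat.card_congr (linearEquiv (G := ↥(commutator N))), card_linear]

instance finite_lin [Finite N] : Finite (Lin N) :=
  Finite.of_equiv _ (linearEquiv (G := ↥(commutator N)))

namespace Split

variable (D : Split N q r)

/-- The complement is commutative. -/
instance commGroupW : CommGroup D.W :=
  { (inferInstance : Group D.W) with
    mul_comm := fun a b => Subtype.ext (D.comm a a.2 b b.2) }

/-- The action on the linear characters. -/
def act : D.W →* MulAut (Lin N) where
  toFun w :=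
    { toFun := fun ν => ν.comp (MulAut.conjNormal (w : N) : MulAut ↥(commutator N)).toMonoidHom
      invFun := fun ν => ν.comp (MulAut.conjNormal (w : N)⁻¹ : MulAut ↥(commutator N)).toMonoidHom
      left_inv := fun ν => MonoidHom.ext fun l => by
        show ν _ = ν l
        congr 1
        exact Subtype.ext (by simp [MulAut.conjNormal_apply, mul_assoc])
      right_inv := fun ν => MonoidHom.ext fun l => by
        show ν _ = ν l
        congr 1
        exact Subtype.ext (by simp [MulAut.conjNormal_apply, mul_assoc])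
      map_mul' := fun _ _ => rfl }
  map_one' := MulEquiv.ext fun ν => MonoidHom.ext fun l => by
    show ν _ = ν l
    congr 1
    exact Subtype.ext (by simp [MulAut.conjNormal_apply])
  map_mul' a b := MulEquiv.ext fun ν => MonoidHom.ext fun l => by
    show ν _ = ν _
    congr 1
    refine Subtype.ext ?_
    show (a * b : D.W).1 * l.1 * ((a * b : D.W).1)⁻¹ = (b : N) * (a.1 * l.1 * a.1⁻¹) * (b : N)⁻¹
    rw [show a * b = b * a from mul_comm a b]
    simp [mul_assoc]

theorem act_apply (w : D.W) (ν : Lin N) (l : ↥(commutator N)) :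
    D.act w ν l = ν ⟨(w : N) * l * (w : N)⁻¹, (inferInstance : (commutator N).Normal).conj_mem
      (l : N) l.2 (w : N)⟩ := by
  show ν _ = ν _
  congr 1

theorem chi_act (w : D.W) (ν : Lin N) :
    (chi (D.act w ν) : ↥(commutator N) → ℂ) =
      conjBy (commutator N) (chi ν : ↥(commutator N) → ℂ) (w : N) :=
  funext fun l => congrArg Units.val (D.act_apply w ν l)

theorem mem_stab_chi {w : D.W} {ν : Lin N} :
    w ∈ D.stab (chi ν : ↥(commutator N) → ℂ) ↔ D.act w ν = ν := by
  rw [mem_stab, ← chi_act]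
  exact ⟨fun e => MonoidHom.ext fun l => Units.ext (congrFun e l), fun e => by rw [e]⟩

theorem mul_unique {l l' w w' : N} (hl : l ∈ commutator N) (hl' : l' ∈ commutator N)
    (hw : w ∈ D.W) (hw' : w' ∈ D.W) (h : l * w = l' * w') : l = l' ∧ w = w' := by
  have hm : w * w'⁻¹ ∈ D.W ⊓ commutator N := Subgroup.mem_inf.mpr
    ⟨D.W.mul_mem hw (D.W.inv_mem hw'), by
      rw [show w * w'⁻¹ = l⁻¹ * l' by
        rw [eq_inv_mul_iff_mul_eq, ← mul_assoc, h, mul_inv_cancel_right]]
      exact Subgroup.mul_mem _ (Subgroup.inv_mem _ hl) hl'⟩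
  rw [D.inf_eq, Subgroup.mem_bot, mul_inv_eq_one] at hm
  exact ⟨by rw [hm] at h; exact mul_right_cancel h, hm⟩

theorem stab_ne_top [Finite N] {β : IrrCharacter ↥(commutator N)}
    (hβ : (β : ↥(commutator N) → ℂ) ≠ fun _ => 1) :
    (D.stab (β : ↥(commutator N) → ℂ)).index ≠ 1 := fun e =>
  D.y_moved (D.fix_of_stab (w := ⟨D.y, D.y_mem⟩) β hβ
    (Subgroup.index_eq_one.mp e ▸ Subgroup.mem_top _))

/-- Every nontrivial linear character gives a degree. -/
theorem exists_degree [Finite N] {ν : Lin N} (hν : ν ≠ 1) :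
    ∃ ψ : IrrCharacter N, (ψ : N → ℂ) 1 = ((D.stab (chi ν : ↥(commutator N) → ℂ)).index : ℂ) := by
  classical
  haveI := Fintype.ofFinite N
  set I := inertia (commutator N) (chi ν : ↥(commutator N) → ℂ) with hI
  choose lp hlp wp hwp hdec using D.exists_mul
  let η : I →* ℂˣ := MonoidHom.mk' (fun g => ν ⟨lp g, hlp g⟩) fun a b => by
    have hwI : conjBy (commutator N) (chi ν : ↥(commutator N) → ℂ) (wp a) = chi ν := by
      have h := (mem_inertia (commutator N)).mp a.2
      rwa [hdec (a : N), conjBy_mul, conjBy_mem _ (isClassFunction_irr _) (hlp _)] at h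
    have hm : wp a * lp b * (wp a)⁻¹ ∈ commutator N :=
      (inferInstance : (commutator N).Normal).conj_mem _ (hlp b) _
    have e : ((a * b : I) : N) = (lp a * (wp a * lp b * (wp a)⁻¹)) * (wp a * wp b) := by
      rw [Subgroup.coe_mul]
      conv_lhs => rw [hdec (a : N), hdec (b : N)]
      group
    have hl := (D.mul_unique (hlp _) (Subgroup.mul_mem _ (hlp _) hm) (hwp _)
      (D.W.mul_mem (hwp _) (hwp _)) ((hdec _).symm.trans e)).1
    have h2 : ν ⟨wp a * lp b * (wp a)⁻¹, hm⟩ = ν ⟨lp b, hlp b⟩ :=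
      Units.ext (congrFun hwI ⟨lp b, hlp b⟩)
    show ν ⟨lp ((a * b : I) : N), _⟩ = ν ⟨lp a, _⟩ * ν ⟨lp b, _⟩
    rw [← h2, ← map_mul]
    exact congrArg ν (Subtype.ext hl)
  obtain ⟨ψ, hψ⟩ := degree_of_extension (commutator N) (chi ν).2 (fun g => (η g : ℂ))
    (isIrrCharacter_monoidHom η) (c := 1) (fun n => by
      rw [Nat.cast_one, one_mul, chi_apply]
      show ((ν ⟨lp n, hlp n⟩ : ℂˣ) : ℂ) = ν n
      exact congrArg (fun x => ((ν x : ℂˣ) : ℂ)) (Subtype.ext
        (D.mul_unique (hlp _) n.2 (hwp _) (one_mem _) (by rw [← hdec, mul_one])).1)) one_ne_zero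
  refine ⟨ψ, ?_⟩
  rw [hψ, indFun_one, map_one, Units.val_one, mul_one, D.index_stab]

/-- The degree of a character lying over a given one. -/
theorem exists_mul_degree [Finite N] (β : IrrCharacter ↥(commutator N))
    (hβ : (β : ↥(commutator N) → ℂ) ≠ fun _ => 1) {a : ℕ} (ha : (β : ↥(commutator N) → ℂ) 1 = a) :
    ∃ (ψ : IrrCharacter N) (d : ℕ), (ψ : N → ℂ) 1 = d ∧ d ≠ 1 ∧
      (D.stab (β : ↥(commutator N) → ℂ)).index * a ∣ d := by
  classical
  haveI := Fintype.ofFinite N
  obtain ⟨ψ, hψ⟩ := exists_over (commutator N) β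
  obtain ⟨d, -, hd⟩ := exists_nat_degree_irr ψ.2
  obtain ⟨e, -, -, -, hde⟩ := exists_mul_eq_degree (commutator N) ψ.2 β.2 hψ hd ha
  rw [card_orbit_eq_index, ← D.index_stab] at hde
  refine ⟨ψ, d, hd, fun e1 => D.stab_ne_top hβ ?_, hde ▸ dvd_mul_left _ _⟩
  exact Nat.eq_one_of_mul_eq_one_right (Nat.eq_one_of_mul_eq_one_left (hde.symm.trans e1))

theorem index_eq_of_le [Finite N] (hnd : NoDivDeg N) {μ ν : Lin N} (hμ : μ ≠ 1) (hν : ν ≠ 1)
    (h : D.stab (chi μ : ↥(commutator N) → ℂ) ≤ D.stab (chi ν : ↥(commutator N) → ℂ)) :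
    D.stab (chi μ : ↥(commutator N) → ℂ) = D.stab (chi ν : ↥(commutator N) → ℂ) := by
  obtain ⟨ψ, hψ⟩ := D.exists_degree hμ
  obtain ⟨ψ', hψ'⟩ := D.exists_degree hν
  have he := hnd ψ' ψ _ _ hψ' hψ (D.stab_ne_top (chi_ne_one hν)) (D.stab_ne_top (chi_ne_one hμ))
    (Subgroup.index_dvd_of_le h)
  refine le_antisymm h (Subgroup.relIndex_eq_one.mp ?_)
  have hm := Subgroup.relIndex_mul_index h
  rw [he] at hm
  exact (Nat.mul_eq_right Subgroup.index_ne_zero_of_finite).mp hm

/-- The vectors fixed by a stabiliser. -/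
def fixedBy (S : Subgroup D.W) : Subgroup (Lin N) where
  carrier := {ν | ∀ s ∈ S, D.act s ν = ν}
  one_mem' := fun s _ => map_one (D.act s)
  mul_mem' := fun {a b} ha hb s hs => by rw [map_mul, ha s hs, hb s hs]
  inv_mem' := fun {a} ha s hs => by rw [map_inv, ha s hs]

theorem act_mul (a b : D.W) (ν : Lin N) : D.act (a * b) ν = D.act a (D.act b ν) := by
  rw [map_mul]; rfl

theorem act_mem_fixedBy {S : Subgroup D.W} {ν : Lin N} (hν : ν ∈ D.fixedBy S) (w : D.W) :
    D.act w ν ∈ D.fixedBy S := fun s hs => by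
  rw [← act_mul, mul_comm, act_mul, hν s hs]

/-- All nontrivial linear characters have the same stabiliser. -/
theorem stab_eq [Finite N] (hnd : NoDivDeg N) {μ ν : Lin N} (hμ : μ ≠ 1) (hν : ν ≠ 1) :
    D.stab (chi μ : ↥(commutator N) → ℂ) = D.stab (chi ν : ↥(commutator N) → ℂ) := by
  classical
  set F := D.fixedBy (D.stab (chi μ : ↥(commutator N) → ℂ))
  set F' := D.fixedBy (D.stab (chi ν : ↥(commutator N) → ℂ))
  have hμF : μ ∈ F := fun s hs => D.mem_stab_chi.mp hs
  have hνF : ν ∈ F' := fun s hs => D.mem_stab_chi.mp hs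
  by_cases h : ∃ κ, κ ∈ F ∧ κ ∈ F' ∧ κ ≠ 1
  · obtain ⟨κ, h1, h2, hκ⟩ := h
    rw [D.index_eq_of_le hnd hμ hκ fun s hs => D.mem_stab_chi.mpr (h1 s hs),
      D.index_eq_of_le hnd hν hκ fun s hs => D.mem_stab_chi.mpr (h2 s hs)]
  · push Not at h
    have hμν : μ * ν ≠ 1 := fun e => hν (h ν (by
      rw [show ν = μ⁻¹ from eq_inv_of_mul_eq_one_right (α := Lin N) e]; exact F.inv_mem hμF) hνF)
    have hle : ∀ s ∈ D.stab (chi (μ * ν) : ↥(commutator N) → ℂ),
        D.act s μ = μ ∧ D.act s ν = ν := by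
      intro s hs
      have e := D.mem_stab_chi.mp hs
      rw [map_mul] at e
      have e' : D.act s μ * μ⁻¹ = ν * (D.act s ν)⁻¹ := by
        apply eq_mul_inv_of_mul_eq (G := Lin N)
        rw [mul_right_comm (G := Lin N), e, mul_comm μ ν, mul_inv_cancel_right (G := Lin N)]
      have h1 : D.act s μ * μ⁻¹ = 1 := h _ (F.mul_mem (D.act_mem_fixedBy hμF s) (F.inv_mem hμF))
        (e' ▸ F'.mul_mem hνF (F'.inv_mem (D.act_mem_fixedBy hνF s)))
      exact ⟨mul_inv_eq_one.mp h1, ((mul_inv_eq_one.mp (e'.symm.trans h1)).symm)⟩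
    rw [← D.index_eq_of_le hnd hμν hμ fun s hs => D.mem_stab_chi.mpr (hle s hs).1,
      D.index_eq_of_le hnd hμν hν fun s hs => D.mem_stab_chi.mpr (hle s hs).2]

/-- Twisting by a linear character of the derived subgroup. -/
noncomputable def twist [Finite N] (ν : Lin N) (β : IrrCharacter ↥(commutator N)) :
    IrrCharacter ↥(commutator N) :=
  ⟨fun l => (ν l : ℂ) * (β : ↥(commutator N) → ℂ) l,
    haveI := Fintype.ofFinite ↥(commutator N)
    isIrrCharacter_linear_mul β.2 ν⟩

theorem twist_val [Finite N] (ν : Lin N) (β : IrrCharacter ↥(commutator N)) :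
    (twist ν β : ↥(commutator N) → ℂ) = (chi ν : ↥(commutator N) → ℂ) * β := rfl

theorem conjBy_mul_chi (w : D.W) (ν : Lin N) (f : ↥(commutator N) → ℂ) :
    conjBy (commutator N) ((chi ν : ↥(commutator N) → ℂ) * f) (w : N) =
      (chi (D.act w ν) : ↥(commutator N) → ℂ) * conjBy (commutator N) f (w : N) := by
  rw [chi_act]; rfl

include D in
/-- All twists of a nonlinear character are trivial. -/
theorem twist_eq [Finite N] (hnd : NoDivDeg N) {ν₀ : Lin N} (hν₀ : ν₀ ≠ 1) (ν : Lin N)
    (β : IrrCharacter ↥(commutator N)) (hβ : (β : ↥(commutator N) → ℂ) 1 ≠ 1) :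
    (twist ν β : ↥(commutator N) → ℂ) = β := by
  classical
  set S0 := D.stab (chi ν₀ : ↥(commutator N) → ℂ)
  have hchi1 : (chi (1 : Lin N) : ↥(commutator N) → ℂ) = 1 := funext fun l => by simp [chi_apply]
  have hchimul : ∀ a b : Lin N, (chi (a * b) : ↥(commutator N) → ℂ) = (chi a : ↥(commutator N) → ℂ) * chi b :=
    fun a b => funext fun l => by simp [chi_apply]
  -- every nonlinear character is fixed by an element acting without fixed points
  have hfix : ∀ γ : IrrCharacter ↥(commutator N), (γ : ↥(commutator N) → ℂ) 1 ≠ 1 →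
      ∃ j : D.W, j ∉ S0 ∧ conjBy (commutator N) (γ : ↥(commutator N) → ℂ) (j : N) = γ := by
    intro γ hγ
    by_contra hno
    push Not at hno
    have hle : D.stab (γ : ↥(commutator N) → ℂ) ≤ S0 := fun j hj => by
      by_contra hj0
      exact hno j hj0 (D.mem_stab.mp hj)
    have hne : (γ : ↥(commutator N) → ℂ) ≠ fun _ => 1 := fun e => hγ (congrFun e 1)
    obtain ⟨a, -, ha⟩ := exists_nat_degree_irr γ.2
    obtain ⟨ψ, d, hd, hd1, hdvd⟩ := D.exists_mul_degree γ hne ha
    obtain ⟨ψ₀, hψ₀⟩ := D.exists_degree hν₀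
    have h0 : S0.index ∣ (D.stab (γ : ↥(commutator N) → ℂ)).index := Subgroup.index_dvd_of_le hle
    have heq := hnd ψ₀ ψ _ _ hψ₀ hd (D.stab_ne_top (chi_ne_one hν₀)) hd1
      (h0.trans ((dvd_mul_right _ _).trans hdvd))
    have h2 : S0.index * a ∣ S0.index := by
      conv_rhs => rw [heq]
      exact (Nat.mul_dvd_mul_right h0 a).trans hdvd
    have : a = 1 := Nat.dvd_one.mp ((Nat.mul_dvd_mul_iff_left
      (Nat.pos_of_ne_zero Subgroup.index_ne_zero_of_finite)).mp (by rwa [mul_one]))
    exact hγ (by rw [ha, this, Nat.cast_one])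
  -- a character has at most one fixed twist
  have huniq : ∀ j : D.W, j ∉ S0 → ∀ (γ : IrrCharacter ↥(commutator N)) (κ : Lin N),
      conjBy (commutator N) (γ : ↥(commutator N) → ℂ) (j : N) = γ →
      conjBy (commutator N) (twist κ γ : ↥(commutator N) → ℂ) (j : N) = twist κ γ →
      (chi κ : ↥(commutator N) → ℂ) * γ = γ := by
    intro j hj γ κ hjγ hjκ
    let K : Subgroup (Lin N) :=
      { carrier := {μ | (chi μ : ↥(commutator N) → ℂ) * γ = γ}
        one_mem' := by
          show (chi (1 : Lin N) : ↥(commutator N) → ℂ) * γ = γ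
          rw [hchi1, one_mul]
        mul_mem' := fun {a b} ha hb => by
          show (chi (a * b) : ↥(commutator N) → ℂ) * γ = γ
          rw [hchimul, mul_assoc, show (chi b : ↥(commutator N) → ℂ) * γ = γ from hb]
          exact ha
        inv_mem' := fun {a} ha => by
          show (chi a⁻¹ : ↥(commutator N) → ℂ) * γ = γ
          conv_lhs => rw [← (show (chi a : ↥(commutator N) → ℂ) * γ = γ from ha)]
          rw [← mul_assoc, ← hchimul, inv_mul_cancel (G := Lin N), hchi1, one_mul] }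
    have hKinv : ∀ μ ∈ K, D.act j μ ∈ K := fun μ hμ => by
      show (chi (D.act j μ) : ↥(commutator N) → ℂ) * γ = γ
      have := congrArg (fun f => conjBy (commutator N) f (j : N)) (show _ * _ = _ from hμ)
      simp only [conjBy_mul_chi, hjγ] at this
      exact this
    let Φ : Lin N → Lin N := fun μ => D.act j μ * μ⁻¹
    have hΦ : Function.Injective Φ := fun a b hab => by
      by_contra hne
      refine hj ?_
      have hd : a * b⁻¹ ≠ 1 := fun e => hne (mul_inv_eq_one.mp e)
      show j ∈ D.stab _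
      rw [D.stab_eq hnd hν₀ hd, mem_stab_chi, map_mul, map_inv (G := Lin N)]
      have hab' : D.act j a = D.act j b * b⁻¹ * a :=
        (mul_inv_eq_iff_eq_mul (G := Lin N)).mp hab
      rw [hab']
      show D.act j b * b⁻¹ * a * (D.act j b)⁻¹ = a * b⁻¹
      rw [mul_comm (D.act j b * b⁻¹ * a), ← mul_assoc (G := Lin N), ← mul_assoc (G := Lin N),
        inv_mul_cancel (G := Lin N), one_mul (M := Lin N)]
      exact mul_comm (G := Lin N) _ _
    have hmem : Φ κ ∈ K := by
      show (chi (D.act j κ * κ⁻¹) : ↥(commutator N) → ℂ) * γ = γ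
      have h1 : (chi (D.act j κ) : ↥(commutator N) → ℂ) * γ = (chi κ : ↥(commutator N) → ℂ) * γ := by
        rw [twist_val, conjBy_mul_chi, hjγ] at hjκ
        exact hjκ
      rw [mul_comm (D.act j κ), hchimul, mul_assoc, h1, ← mul_assoc, ← hchimul, inv_mul_cancel (G := Lin N),
        hchi1, one_mul]
    let Φ' : K → K := fun μ => ⟨Φ μ, K.mul_mem (hKinv μ μ.2) (K.inv_mem μ.2)⟩
    have hΦ' : Function.Injective Φ' := fun a b hab =>
      Subtype.ext (hΦ (congrArg Subtype.val hab))
    obtain ⟨κ', hκ'⟩ := (Finite.injective_iff_surjective.mp hΦ') ⟨Φ κ, hmem⟩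
    exact (hΦ (congrArg Subtype.val hκ')) ▸ κ'.2
  obtain ⟨j, hj, hjβ⟩ := hfix β hβ
  obtain ⟨k, hk, hkβ⟩ := hfix (twist ν β) (by simpa [twist] using hβ)
  have hkj : conjBy (commutator N) (conjBy (commutator N) (β : ↥(commutator N) → ℂ) (k : N))
      (j : N) = conjBy (commutator N) (β : ↥(commutator N) → ℂ) (k : N) := by
    rw [← conjBy_mul, show (k : N) * j = j * k from D.comm k k.2 j j.2, conjBy_mul, hjβ]
  have he : (twist ((D.act k ν)⁻¹ * ν) β : ↥(commutator N) → ℂ) =
      conjBy (commutator N) (β : ↥(commutator N) → ℂ) (k : N) := by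
    rw [twist_val] at hkβ
    rw [conjBy_mul_chi] at hkβ
    rw [twist_val, hchimul, mul_assoc, ← hkβ, ← mul_assoc, ← hchimul, inv_mul_cancel (G := Lin N), hchi1,
      one_mul]
  have h1 := huniq j hj β _ hjβ (by rw [he]; exact hkj)
  have hkfix : conjBy (commutator N) (β : ↥(commutator N) → ℂ) (k : N) = β := by
    rw [← he, twist_val, h1]
  exact huniq k hk β ν hkfix hkβ

end Split

end CfsgLib.NDTwoComp
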