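import Cfsg.Agent.Lib.NDTwoComp.Complemented
import Cfsg.Agent.Lib.DegreeGraphSolvable.Components

/-!
# Solvable groups without divisibility and with a disconnected degree graph
-/

set_option autoImplicit false
set_option linter.style.haveILetI false

namespace CfsgLib.NDTwoComp

open Cfsg CfsgLib.Char CfsgLib.PrimeDegrees CfsgLib.ThreeDegrees CfsgLib.DegreeGraphSolvable
open scoped ComplexConjugate CfsgLib.Char commutatorElement

universe u

variable {G : Type u} [Group G]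

/-- If all vertices are reachable from one of them there is at most one component. -/
theorem components_le_one (s : ℕ) (hs : s ∈ Cfsg.degreePrimes G)
    (h : ∀ r ∈ Cfsg.degreePrimes G, r = s ∨ (Cfsg.degreeGraph G).Adj r s ∨
      ∃ t ∈ Cfsg.degreePrimes G, (r = t ∨ (Cfsg.degreeGraph G).Adj r t) ∧
        (t = s ∨ (Cfsg.degreeGraph G).Adj t s)) :
    Nat.card ((Cfsg.degreeGraph G).induce (Cfsg.degreePrimes G)).ConnectedComponent ≤ 1 := by
  set H := (Cfsg.degreeGraph G).induce (Cfsg.degreePrimes G)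
  have hadj : ∀ r t : Cfsg.degreePrimes G, ((r : ℕ) = t ∨ (Cfsg.degreeGraph G).Adj r t) →
      H.connectedComponentMk r = H.connectedComponentMk t := by
    rintro r t (h | h)
    · rw [Subtype.ext h]
    · exact SimpleGraph.ConnectedComponent.eq.mpr (SimpleGraph.Adj.reachable h)
  have hall : ∀ c : H.ConnectedComponent, c = H.connectedComponentMk ⟨s, hs⟩ := by
    intro c
    induction c using SimpleGraph.ConnectedComponent.ind with
    | _ v =>
      rcases h v.1 v.2 with h1 | h1 | ⟨t, ht, h1, h2⟩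
      · exact hadj v ⟨s, hs⟩ (Or.inl h1)
      · exact hadj v ⟨s, hs⟩ (Or.inr h1)
      · exact (hadj v ⟨t, ht⟩ h1).trans (hadj ⟨t, ht⟩ ⟨s, hs⟩ h2)
  haveI : Subsingleton H.ConnectedComponent := ⟨fun a b => (hall a).trans (hall b).symm⟩
  exact Finite.card_le_one_iff_subsingleton.mpr this

variable [Finite G]

theorem three_degrees [Group.IsSolvable G]
    (hnd : ∀ a ∈ Cfsg.charDegrees G, ∀ b ∈ Cfsg.charDegrees G, 1 < a → a < b → ¬ a ∣ b)
    (htwo : Nat.card ((Cfsg.degreeGraph G).induce (Cfsg.degreePrimes G)).ConnectedComponent = 2) :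
    Nat.card (Cfsg.charDegrees G) = 3 := by
  classical
  haveI := Fintype.ofFinite G
  have hnd' : ∀ (χ χ' : IrrCharacter G) (d d' : ℕ), (χ : G → ℂ) 1 = d → (χ' : G → ℂ) 1 = d' →
      d ≠ 1 → d ∣ d' → d = d' := by
    intro χ χ' d d' hd hd' h1 hdvd
    have hd0 : d ≠ 0 := fun e => irr_degree_ne_zero χ.2 (by rw [hd, e, Nat.cast_zero])
    have hd0' : d' ≠ 0 := fun e => irr_degree_ne_zero χ'.2 (by rw [hd', e, Nat.cast_zero])
    by_contra hne
    exact hnd d (mem_charDegrees χ.2 hd) d' (mem_charDegrees χ'.2 hd') (by omega)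
      (lt_of_le_of_ne (Nat.le_of_dvd (Nat.pos_of_ne_zero hd0') hdvd) hne) hdvd
  have hconn : ∀ s, s ∈ Cfsg.degreePrimes G → (∀ r ∈ Cfsg.degreePrimes G, r = s ∨
      (Cfsg.degreeGraph G).Adj r s ∨ ∃ t ∈ Cfsg.degreePrimes G,
        (r = t ∨ (Cfsg.degreeGraph G).Adj r t) ∧ (t = s ∨ (Cfsg.degreeGraph G).Adj t s)) → False :=
    fun s hs h => by
      have := components_le_one s hs h
      omega
  -- the minimal nonabelian quotient
  have hc : commutator G ≠ ⊥ := by
    intro hc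
    have hlin := (Cfsg.Agent.S0187.result (G := G)).mp (fun a b =>
      commutatorElement_eq_one_iff_mul_comm.mp (Subgroup.mem_bot.mp (hc ▸
        Subgroup.commutator_mem_commutator (Subgroup.mem_top a) (Subgroup.mem_top b))))
    have hemp : IsEmpty ((Cfsg.degreeGraph G).induce (Cfsg.degreePrimes G)).ConnectedComponent :=
      ⟨fun c => by
        induction c using SimpleGraph.ConnectedComponent.ind with
        | _ v =>
          obtain ⟨r, hr, d, ⟨χ, hχ⟩, hrd⟩ := v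
          rw [Extraspecial.charDegree_eq (d := 1) (by rw [hlin χ, Nat.cast_one])] at hχ
          subst hχ
          exact hr.not_dvd_one hrd⟩
    rw [Nat.card_of_isEmpty] at htwo
    omega
  haveI : Nontrivial G := by
    by_contra hn
    rw [not_nontrivial_iff_subsingleton] at hn
    exact hc (Subsingleton.elim _ _)
  have hperf : ⁅commutator G, commutator G⁆ ≠ commutator G := by
    intro hp
    obtain ⟨n, hn⟩ := Group.IsSolvable.solvable (G := G)
    have hall : ∀ k, 1 ≤ k → derivedSeries G k = commutator G := by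
      intro k hk
      induction k, hk using Nat.le_induction with
      | base => exact derivedSeries_one G
      | succ k _ ih => rw [derivedSeries_succ, ih, hp]
    have h2 := hall (n + 1) (by omega)
    rw [derivedSeries_succ, hn, Subgroup.commutator_bot_left] at h2
    exact hc h2.symm
  obtain ⟨R, ⟨hR, hR2, hRc⟩, hmax⟩ := Set.Finite.exists_maximal
    (s := {K : Subgroup G | K.Normal ∧ ⁅commutator G, commutator G⁆ ≤ K ∧ ¬ commutator G ≤ K})
    (Set.toFinite _) ⟨⁅commutator G, commutator G⁆, inferInstance, le_rfl,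
      fun e => hperf (le_antisymm (Subgroup.commutator_le_left _ _) e)⟩
  haveI := hR
  have hmap : commutator (G ⧸ R) = (commutator G).map (QuotientGroup.mk' R) := by
    rw [commutator_def, commutator_def, Subgroup.map_commutator, ← MonoidHom.range_eq_map,
      MonoidHom.range_eq_top.mpr (QuotientGroup.mk'_surjective R)]
  have hne : commutator (G ⧸ R) ≠ ⊥ := fun e => hRc (by
    rw [hmap, Subgroup.map_eq_bot_iff, QuotientGroup.ker_mk'] at e
    exact e)
  have hab : ∀ a ∈ commutator (G ⧸ R), ∀ b ∈ commutator (G ⧸ R), a * b = b * a := by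
    intro a ha b hb
    rw [hmap] at ha hb
    obtain ⟨a, ha, rfl⟩ := ha
    obtain ⟨b, hb, rfl⟩ := hb
    rw [← commutatorElement_eq_one_iff_mul_comm, ← map_commutatorElement]
    exact (QuotientGroup.eq_one_iff _).mpr (hR2 (Subgroup.commutator_mem_commutator ha hb))
  obtain ⟨q, hq, hQ⟩ := structure_of_minimal hne hab fun M hM hMne => by
    haveI := hM
    have hle : R ≤ M.comap (QuotientGroup.mk' R) := by
      intro x hx
      rw [Subgroup.mem_comap, QuotientGroup.mk'_apply, (QuotientGroup.eq_one_iff x).mpr hx]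
      exact one_mem M
    rw [hmap, Subgroup.map_le_iff_le_comap]
    by_contra hc
    have := le_antisymm hle (hmax ⟨inferInstance, hR2.trans hle, hc⟩ hle)
    exact hMne (Subgroup.comap_injective (QuotientGroup.mk'_surjective R)
      (by rw [← this, MonoidHom.comap_bot, QuotientGroup.ker_mk']))
  haveI := Fact.mk hq
  rcases hQ with hQp | ⟨hNq, hqf, hf1, hsurj⟩
  · -- a quotient of prime power order connects the graph
    exfalso
    obtain ⟨β, hβ⟩ : ∃ β : IrrCharacter (G ⧸ R), (β : G ⧸ R → ℂ) 1 ≠ 1 := by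
      by_contra h'
      push Not at h'
      refine hne (le_bot_iff.mp ?_)
      rw [commutator_def, Subgroup.commutator_le]
      exact fun a _ b _ => Subgroup.mem_bot.mpr
        (commutatorElement_eq_one_iff_mul_comm.mpr ((Cfsg.Agent.S0187.result (G := G ⧸ R)).mpr h' a b))
    obtain ⟨b, hb, -, hbdvd⟩ := exists_degree_dvd_card β.2
    obtain ⟨k, hk⟩ := hQp.exists_card_eq
    have hb1 : b ≠ 1 := fun e => hβ (by rw [hb, e, Nat.cast_one])
    have hqb : q ∣ b := by
      obtain ⟨j, -, rfl⟩ := (Nat.dvd_prime_pow hq).mp (hk ▸ hbdvd)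
      exact dvd_pow_self q fun e => hb1 (by rw [e, pow_zero])
    let γ : IrrCharacter G :=
      ⟨_, isIrrCharacter_comp (f := QuotientGroup.mk' R) (QuotientGroup.mk'_surjective R) β.2⟩
    have hγ : (γ : G → ℂ) 1 = b := by simpa [γ] using hb
    refine hconn q ⟨hq, b, mem_charDegrees γ.2 hγ, hqb⟩ fun r hr => ?_
    obtain ⟨hr, d, ⟨χ, hχ⟩, hrd⟩ := hr
    obtain ⟨d', hd'0, hd'⟩ := exists_nat_degree_irr χ.2
    rw [Extraspecial.charDegree_eq hd'] at hχ
    subst hχ
    by_cases hqd : q ∣ d'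
    · exact (eq_or_adj hr hq (mem_charDegrees χ.2 hd') hrd hqd).imp_right Or.inl
    · exfalso
      have hcop : d'.Coprime R.index := by
        show d'.Coprime (Nat.card (G ⧸ R))
        rw [hk]
        exact ((hq.coprime_iff_not_dvd.mpr hqd).symm).pow_right k
      have hirr := isIrr_mul_inflate R χ.2 (restrict_irr_of_coprime R χ.2 hd' hcop) β.2
      have heq := hnd' γ ⟨_, hirr⟩ b (b * d') hγ (by
        show (β : G ⧸ R → ℂ) ((1 : G) : G ⧸ R) * (χ : G → ℂ) 1 = _
        rw [QuotientGroup.mk_one, hb, hd']; push_cast; rfl) hb1 (dvd_mul_right _ _)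
      have h1 : d' = 1 := by
        have hb0 : b ≠ 0 := fun e => irr_degree_ne_zero β.2 (by rw [hb, e, Nat.cast_zero])
        exact (Nat.mul_eq_left hb0).mp heq.symm
      exact hr.not_dvd_one (h1 ▸ hrd)
  -- the Frobenius case
  set f := (commutator (G ⧸ R)).index with hf
  set N₀ : Subgroup G := (commutator (G ⧸ R)).comap (QuotientGroup.mk' R) with hN₀
  haveI : Fintype N₀ := Fintype.ofFinite _
  have hidx : N₀.index = f := Subgroup.index_comap_of_surjective _ (QuotientGroup.mk'_surjective R)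
  obtain ⟨χ₀, hχ₀⟩ := exists_induced_degree R q hNq hne hab hsurj
    ⟨fun _ => 1, isIrrCharacter_one⟩ 1 (by simp) (Nat.coprime_one_left q)
  rw [mul_one] at hχ₀
  have hfD : f ∈ Cfsg.charDegrees G := mem_charDegrees χ₀.2 hχ₀
  have hψq : ∀ (ψ : IrrCharacter N₀) (a : ℕ), (ψ : N₀ → ℂ) 1 = a → a ≠ 1 → q ∣ a := by
    intro ψ a ha ha1
    by_contra hqa
    obtain ⟨χ₁, hχ₁⟩ := exists_induced_degree R q hNq hne hab hsurj ψ a ha
      (hq.coprime_iff_not_dvd.mpr hqa).symm
    have := hnd' χ₀ χ₁ f (f * a) hχ₀ hχ₁ (by omega) (dvd_mul_right _ _)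
    exact ha1 ((Nat.mul_eq_left (by omega)).mp this.symm)
  -- the other degrees
  have hsmall : ∀ (χ : IrrCharacter G) (d : ℕ), (χ : G → ℂ) 1 = d → d ≠ 1 → ¬ q ∣ d → d = f := by
    intro χ d hd hd1 hqd
    obtain ⟨θ, hθ⟩ := exists_constituent N₀ (isCharacter_of_isIrr χ.2) (irr_degree_ne_zero χ.2)
    obtain ⟨a, -, ha⟩ := exists_nat_degree_irr θ.2
    obtain ⟨k, hk, hkd⟩ := degree_ratio N₀ θ.2 χ.2 hθ
    rw [hd, ha] at hk
    have hk' : d = k * a := by exact_mod_cast hk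
    have ha1 : a = 1 := by
      by_contra h
      exact hqd (hk' ▸ (hψq θ a ha h).trans (dvd_mul_left _ _))
    rw [ha1, mul_one] at hk'
    exact hnd' χ χ₀ d f hd hχ₀ hd1 (hidx ▸ hk' ▸ hkd)
  have hcomp : ∀ (χ : IrrCharacter G) (d : ℕ), (χ : G → ℂ) 1 = d → q ∣ d → d.Coprime f := by
    intro χ d hd hqd
    by_contra hnc
    obtain ⟨s, hs, hsd, hsf⟩ := Nat.Prime.not_coprime_iff_dvd.mp hnc
    refine hconn s ⟨hs, f, hfD, hsf⟩ fun r hr => ?_
    obtain ⟨hr, d₁, ⟨χ₁, hχ₁⟩, hrd⟩ := hr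
    obtain ⟨d', -, hd'⟩ := exists_nat_degree_irr χ₁.2
    rw [Extraspecial.charDegree_eq hd'] at hχ₁
    subst hχ₁
    by_cases hqd' : q ∣ d'
    · exact Or.inr (Or.inr ⟨q, ⟨hq, d, mem_charDegrees χ.2 hd, hqd⟩,
        eq_or_adj hr hq (mem_charDegrees χ₁.2 hd') hrd hqd',
        eq_or_adj hq hs (mem_charDegrees χ.2 hd) hqd hsd⟩)
    · rw [hsmall χ₁ d' hd' (fun e => hr.not_dvd_one (e ▸ hrd)) hqd'] at hrd
      exact (eq_or_adj hr hs hfD hrd hsf).imp_right Or.inl
  have hD : ∃ (χ : IrrCharacter G) (d : ℕ), (χ : G → ℂ) 1 = d ∧ q ∣ d := by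
    by_contra hno
    push Not at hno
    obtain ⟨s, hs, hsf⟩ := Nat.exists_prime_and_dvd (show f ≠ 1 by omega)
    refine hconn s ⟨hs, f, hfD, hsf⟩ fun r hr => ?_
    obtain ⟨hr, d₁, ⟨χ₁, hχ₁⟩, hrd⟩ := hr
    obtain ⟨d', -, hd'⟩ := exists_nat_degree_irr χ₁.2
    rw [Extraspecial.charDegree_eq hd'] at hχ₁
    subst hχ₁
    rw [hsmall χ₁ d' hd' (fun e => hr.not_dvd_one (e ▸ hrd)) (hno χ₁ d' hd')] at hrd
    exact (eq_or_adj hr hs hfD hrd hsf).imp_right Or.inl
  -- the nonlinear characters of the kernel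
  have hrestr : ∀ (χ : IrrCharacter G) (d : ℕ), (χ : G → ℂ) 1 = d → q ∣ d →
      IsIrrCharacter N₀ (fun n : N₀ => (χ : G → ℂ) n) := fun χ d hd hqd =>
    restrict_irr_of_coprime N₀ χ.2 hd (by rw [hidx]; exact hcomp χ d hd hqd)
  have habove : ∀ (ψ : IrrCharacter N₀) (a : ℕ), (ψ : N₀ → ℂ) 1 = a → a ≠ 1 →
      ∃ χ : IrrCharacter G, (fun n : N₀ => (χ : G → ℂ) n) = ψ ∧ q ∣ a ∧ (χ : G → ℂ) 1 = a := by
    intro ψ a ha ha1
    obtain ⟨χ, hχ⟩ := exists_over N₀ ψ
    obtain ⟨d, -, hd⟩ := exists_nat_degree_irr χ.2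
    obtain ⟨k, hk, -⟩ := degree_ratio N₀ ψ.2 χ.2 hχ
    rw [hd, ha] at hk
    have hk' : d = k * a := by exact_mod_cast hk
    have hqa := hψq ψ a ha ha1
    have hirr := hrestr χ d hd (hk' ▸ hqa.trans (dvd_mul_left _ _))
    have heq : (fun n : N₀ => (χ : G → ℂ) n) = ψ := by
      by_contra hne
      exact hχ (classInner_irr_ne hirr ψ.2 hne)
    exact ⟨χ, heq, hqa, by rw [← ha, ← heq]; rfl⟩
  have hinv : ∀ ψ : IrrCharacter N₀, (ψ : N₀ → ℂ) 1 ≠ 1 → ∀ g,
      conjBy N₀ (ψ : N₀ → ℂ) g = ψ := by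
    intro ψ hψ g
    obtain ⟨a, -, ha⟩ := exists_nat_degree_irr ψ.2
    obtain ⟨χ, hχ, -, -⟩ := habove ψ a ha (fun e => hψ (by rw [ha, e, Nat.cast_one]))
    rw [← hχ]
    exact conjBy_restrict N₀ (isClassFunction_irr χ) g
  -- an element of prime order outside
  obtain ⟨r, hr, hrf⟩ := Nat.exists_prime_and_dvd (show f ≠ 1 by omega)
  haveI := Fact.mk hr
  haveI : N₀.Normal := inferInstance
  have hrq : r ≠ q := fun e => hq.coprime_iff_not_dvd.mp hqf (e ▸ hrf)
  obtain ⟨c', hc'⟩ := exists_prime_orderOf_dvd_card' (G := G ⧸ N₀) r (by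
    show r ∣ N₀.index
    rw [hidx]; exact hrf)
  obtain ⟨c, rfl⟩ := QuotientGroup.mk'_surjective N₀ c'
  have hcN : c ∉ N₀ := fun h => by
    rw [QuotientGroup.mk'_apply, (QuotientGroup.eq_one_iff c).mpr h, orderOf_one] at hc'
    exact hr.one_lt.ne hc'
  have hcr : c ^ r ∈ N₀ := by
    rw [← QuotientGroup.eq_one_iff, QuotientGroup.mk_pow]
    exact hc' ▸ pow_orderOf_eq_one _
  set σ : MulAut N₀ := MulAut.conjNormal c with hσ
  have hσr : ∃ t, σ ^ r = MulAut.conj t := ⟨⟨c ^ r, hcr⟩, by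
    rw [hσ, ← map_pow]
    exact MulEquiv.ext fun n => Subtype.ext (MulAut.conjNormal_apply (c ^ r) n)⟩
  -- a moved element of prime power order
  obtain ⟨m₀, hm₀, hm₁⟩ : ∃ m ∈ commutator (G ⧸ R), m ≠ 1 := by
    by_contra hno
    push Not at hno
    exact hne ((Subgroup.eq_bot_iff_forall _).mpr hno)
  obtain ⟨n', hn', hcn⟩ := hsurj (QuotientGroup.mk' R c) (fun h => hcN h) m₀ hm₀
  obtain ⟨n, rfl⟩ := QuotientGroup.mk'_surjective R n'
  let π : N₀ →* commutator (G ⧸ R) := (QuotientGroup.mk' R).subgroupComap _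
  letI : CommGroup (commutator (G ⧸ R)) :=
    { (inferInstance : Group (commutator (G ⧸ R))) with
      mul_comm := fun a b => Subtype.ext (hab a a.2 b b.2) }
  have hπ : ∀ x : N₀, x ∈ commutator N₀ → π x = 1 := fun x hx =>
    MonoidHom.mem_ker.mp (Abelianization.commutator_subset_ker π hx)
  set m := ordCompl[q] (Nat.card N₀) with hm
  have hqm : ¬ q ∣ m := Nat.not_dvd_ordCompl hq Nat.card_pos.ne'
  set y : N₀ := (⟨n, hn'⟩ : N₀) ^ m with hy
  have hyk : y ^ q ^ (Nat.card N₀).factorization q = 1 := by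
    rw [hy, ← pow_mul, mul_comm, Nat.ordProj_mul_ordCompl_eq_self, pow_card_eq_one']
  have hym : dbar σ y ≠ 1 := by
    intro e
    rw [hy, map_pow, dbar_apply, ← map_inv, ← map_mul, ← map_pow, of_eq_one] at e
    have h1 := hπ _ e
    rw [map_pow] at h1
    have h2 : π (σ ⟨n, hn'⟩ * (⟨n, hn'⟩ : N₀)⁻¹) = ⟨m₀, hm₀⟩ := by
      apply Subtype.ext
      show QuotientGroup.mk' R ((σ ⟨n, hn'⟩ * (⟨n, hn'⟩ : N₀)⁻¹ : N₀) : G) = m₀
      rw [← hcn, ← map_commutatorElement]
      rfl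
    rw [h2] at h1
    obtain ⟨j, hj⟩ := hNq ⟨m₀, hm₀⟩
    have := pow_gcd_eq_one.mpr ⟨hj, h1⟩
    rw [(Nat.Coprime.pow_left j (hq.coprime_iff_not_dvd.mpr hqm) : Nat.Coprime (q ^ j) m), pow_one] at this
    exact hm₁ (congrArg Subtype.val this)
  have hND : NoDivDeg N₀ := by
    intro ψ ψ' a a' ha ha' h1 h1' hdvd
    obtain ⟨χ, -, -, hχ⟩ := habove ψ a ha h1
    obtain ⟨χ', -, -, hχ'⟩ := habove ψ' a' ha' h1'
    exact hnd' χ χ' a a' hχ hχ' h1 hdvd
  have key := degrees_eq_of_operator hq hr hrq hσr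
    (fun ψ hψ x => by
      have := congrFun (hinv ψ hψ c) x
      rwa [conjBy_eq_comp] at this)
    (fun ψ a ha ha1 => by
      obtain ⟨χ, -, hqa, hχ⟩ := habove ψ a ha ha1
      exact ⟨hqa, fun hra => hr.not_dvd_one
        ((hcomp χ a hχ hqa).gcd_eq_one ▸ Nat.dvd_gcd hra hrf)⟩)
    hND hyk hym
  obtain ⟨χd, d, hd, hqd⟩ := hD
  have hd1 : d ≠ 1 := fun e => hq.not_dvd_one (e ▸ hqd)
  have hset : Cfsg.charDegrees G = {1, f, d} := by
    ext e
    constructor
    · rintro ⟨χ, hχ⟩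
      obtain ⟨e', -, he'⟩ := exists_nat_degree_irr χ.2
      rw [Extraspecial.charDegree_eq he'] at hχ
      subst hχ
      by_cases h1 : e' = 1
      · exact Or.inl h1
      by_cases hqe : q ∣ e'
      · refine Or.inr (Or.inr ?_)
        exact key ⟨_, hrestr χ e' he' hqe⟩ ⟨_, hrestr χd d hd hqd⟩ e' d he' hd h1 hd1
      · exact Or.inr (Or.inl (hsmall χ e' he' h1 hqe))
    · rintro (rfl | rfl | rfl)
      · exact mem_charDegrees isIrrCharacter_one (by simp)
      · exact hfD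
      · exact mem_charDegrees χd.2 hd
  have hfd : f ≠ d := fun e => hq.coprime_iff_not_dvd.mp hqf (e ▸ hqd)
  rw [hset, Nat.card_coe_set_eq, Set.ncard_eq_three.mpr]
  exact ⟨1, f, d, by omega, fun e => hd1 e.symm, hfd, rfl⟩

end CfsgLib.NDTwoComp
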